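import Mathlib

/-! Primary pairs for conjugation by t and the letters expressed in them (generated data). -/

set_option autoImplicit false
set_option linter.all false

namespace H94.J4.Data

def prim : List (List ℕ × List ℕ) := [
([0], [0]),
([2,0,2,0,2,0,1,0,1,0,2,0,2], [2,0,2,0,2,0,1,0,1,0,2,0,2]),
([3,5,6,7,9,11,12,13], [3,5,6,7,9,11,12,13]),
([3,4,9,10,12,13], [3,4,9,10,12,13]),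
([6,8,11,13], [6,8,11,13]),
([6,8,10,12], [0,2,0,2,0,1,0,1,0,1,0,1,0,1,0,1,0,2,0,2,0,2,0,2,0,2,0,2,0,1,0,1,0,1,0,1,0,1,0,1,0,2,0,2,0,2,0,2,0,2,0,2,0,1,0,1,6,8,10,12]),
([4,6,8,9,11,13], [0,1,0,2,0,1,0,2,0,2,0,2,0,1,0,1,0,2,0,1,0,2,0,2,0,1,0,1,0,2,0,2,0,2,0,1,0,2,0,4,6,8,9,11,13]),
([4,5,6,7,9,11,12], [0,2,0,2,0,1,0,2,0,2,0,1,0,2,0,2,0,2,0,1,0,2,0,1,0,2,0,1,0,2,0,2,0,1,0,2,0,1,0,1,0,2,0,2,0,2,0,1,4,5,6,7,9,11,12]),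
([3,5,9,11], [0,2,0,2,0,1,0,1,0,1,0,1,0,2,0,2,0,2,0,1,0,1,0,1,0,1,0,2,0,1,0,2,0,1,0,1,0,2,0,2,0,2,0,1,0,2,0,2,0,2,3,5,9,11]),
([9,11], [1,0,2,0,1,0,2,0,2,0,1,0,2,0,1,0,1,0,2,0,1,0,2,0,1,0,2,0,2,0,2,0,2,0,2,0,1,0,2,0,1,0,1,0,2,0,1,0,1,0,1,0,2,0,1,9,11]),
([4,6,7,8,9,13], [0,1,0,1,0,1,0,2,0,1,0,1,0,1,0,2,0,2,0,1,0,2,0,1,0,2,0,2,0,2,0,2,0,1,0,1,0,1,0,2,0,2,0,2,0,2,0,1,0,1,4,6,7,8,9,13])]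
def twistWords : List (List ℕ) := [[0],[1,1,1],[1],[],[1,0,1,1,1],[0,1,0],[5,6,7,9,10],[2,4,5],[4,7,9,10],[2,3,5,7,8,10],[2,7,9],[2,3,6,7,8],[4,7,8,9,10],[2,4,6],[3,4,6,8]]

end H94.J4.Data
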