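import Mathlib
import Cfsg.Agent.H94.J4.Rules

/-! The deductions (generated data). -/

set_option autoImplicit false
set_option maxRecDepth 100000
set_option linter.all false

namespace H94.J4.Data

def known0 : H23.DC.Known := ⟨[(0, 0), (0, 0), (0, 1), (0, 2), (0, 3), (0, 3)], [108, 68, 58, 26, 12, 0]⟩
def known1 : H23.DC.Known := ⟨[(1, 19), (1, 18), (1, 18), (1, 17), (1, 17), (1, 16), (1, 16), (1, 15), (1, 15), (1, 14), (1, 14), (0, 0), (0, 0), (0, 1), (0, 2), (0, 3), (0, 3)], [9, 8, 7, 6, 5, 4, 3, 2, 1, 108, 68, 58, 26, 12, 0]⟩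
def known2 : H23.DC.Known := ⟨[(2, 70), (2, 27), (2, 69), (2, 26), (1, 68), (1, 25), (1, 67), (1, 24), (1, 23), (1, 23), (1, 22), (1, 22), (1, 21), (1, 21), (1, 66), (1, 20), (1, 19), (1, 19), (1, 18), (1, 18), (1, 17), (1, 17), (1, 16), (1, 16), (1, 15), (1, 15), (1, 14), (1, 14), (0, 0), (0, 0), (0, 1), (0, 2), (0, 3), (0, 3)], [13, 11, 10, 9, 8, 7, 6, 5, 4, 3, 2, 1, 108, 68, 58, 26, 12, 0]⟩
def known3 : H23.DC.Known := ⟨[(2, 71), (2, 28), (2, 70), (2, 27), (2, 69), (2, 26), (1, 68), (1, 25), (1, 67), (1, 24), (1, 23), (1, 23), (1, 22), (1, 22), (1, 21), (1, 21), (1, 66), (1, 20), (1, 19), (1, 19), (1, 18), (1, 18), (1, 17), (1, 17), (1, 16), (1, 16), (1, 15), (1, 15), (1, 14), (1, 14), (0, 0), (0, 0), (0, 1), (0, 2), (0, 3), (0, 3)], [32, 31, 30, 29, 28, 27, 25, 24, 23, 22, 21, 20, 19, 18, 17, 16, 15, 14,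 13, 11, 10, 9, 8, 7, 6, 5, 4, 3, 2, 1, 108, 68, 58, 26, 12, 0]⟩
def known4 : H23.DC.Known := ⟨[(3, 31), (3, 73), (3, 30), (3, 72), (3, 29), (2, 71), (2, 28), (2, 70), (2, 27), (2, 69), (2, 26), (1, 68), (1, 25), (1, 67), (1, 24), (1, 23), (1, 23), (1, 22), (1, 22), (1, 21), (1, 21), (1, 66), (1, 20), (1, 19), (1, 19), (1, 18), (1, 18), (1, 17), (1, 17), (1, 16), (1, 16), (1, 15), (1, 15), (1, 14), (1, 14), (0, 0), (0, 0), (0, 1), (0, 2), (0, 3), (0, 3)], [47, 46, 45, 44, 43, 42, 41, 40, 39, 38, 37, 36, 35, 34, 33, 32, 31, 30, 29, 28, 27, 25, 24, 23, 22, 21, 20, 19, 18, 17, 16, 15, 14, 13, 11, 10, 9, 8, 7, 6, 5, 4, 3, 2, 1, 108, 68, 58, 26, 12, 0]⟩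
def known5 : H23.DC.Known := ⟨[(4, 77), (4, 34), (4, 76), (4, 33), (4, 75), (4, 32), (3, 74), (3, 31), (3, 73), (3, 30), (3, 72), (3, 29), (2, 71), (2, 28), (2, 70), (2, 27), (2, 69), (2, 26), (1, 68), (1, 25), (1, 67), (1, 24), (1, 23), (1, 23), (1, 22), (1, 22), (1, 21), (1, 21), (1, 66), (1, 20), (1, 19), (1, 19), (1, 18), (1, 18), (1, 17), (1, 17), (1, 16), (1, 16), (1, 15), (1, 15), (1, 14), (1, 14), (0, 0), (0, 0), (0, 1), (0, 2), (0, 3), (0, 3)], [61, 60, 59, 57, 56, 55, 54, 53, 52, 51, 50, 49, 48, 47, 46, 45, 44, 43, 42, 41, 40, 39, 38, 37, 36, 35, 34, 33, 32, 31, 30, 29, 28, 27, 25, 24, 23, 22, 21, 20, 19, 18, 17, 16, 15, 14, 13, 11, 10, 9, 8, 7, 6, 5, 4, 3, 2, 1, 108, 68, 58, 26, 12, 0]⟩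
def known6 : H23.DC.Known := ⟨[(5, 82), (5, 39), (5, 81), (5, 38), (5, 80), (5, 37), (5, 79), (5, 36), (5, 78), (5, 35), (4, 77), (4, 34), (4, 76), (4, 33), (4, 75), (4, 32), (3, 74), (3, 31), (3, 73), (3, 30), (3, 72), (3, 29), (2, 71), (2, 28), (2, 70), (2, 27), (2, 69), (2, 26), (1, 68), (1, 25), (1, 67), (1, 24), (1, 23), (1, 23), (1, 22), (1, 22), (1, 21), (1, 21), (1, 66), (1, 20), (1, 19), (1, 19), (1, 18), (1, 18), (1, 17), (1, 17), (1, 16), (1, 16), (1, 15), (1, 15), (1, 14), (1, 14), (0, 0), (0, 0), (0, 1), (0, 2), (0, 3), (0, 3)], [72, 71, 70, 69, 67, 66, 65, 64, 63, 62, 61, 60, 59, 57, 56, 55, 54, 53, 52, 51, 50, 49, 48, 47, 46, 45, 44, 43, 42, 41, 40, 39, 38, 37, 36, 35, 34, 33, 32, 31, 30, 29, 28, 27, 25, 24, 23, 22, 21, 20, 19, 18, 17, 16, 15, 14, 13, 11, 10, 9, 8, 7, 6, 5, 4, 3, 2, 1, 108, 68,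 58, 26, 12, 0]⟩
def known7 : H23.DC.Known := ⟨[(5, 82), (5, 39), (5, 81), (5, 38), (5, 80), (5, 37), (5, 79), (5, 36), (5, 78), (5, 35), (4, 77), (4, 34), (4, 76), (4, 33), (4, 75), (4, 32), (3, 74), (3, 31), (3, 73), (3, 30), (3, 72), (3, 29), (2, 71), (2, 28), (2, 70), (2, 27), (2, 69), (2, 26), (1, 68), (1, 25), (1, 67), (1, 24), (1, 23), (1, 23), (1, 22), (1, 22), (1, 21), (1, 21), (1, 66), (1, 20), (1, 19), (1, 19), (1, 18), (1, 18), (1, 17), (1, 17), (1, 16), (1, 16), (1, 15), (1, 15), (1, 14), (1, 14), (0, 0), (0, 0), (0, 1), (0, 2), (0, 3), (0, 3)], [92, 91, 90, 89, 88, 87, 86, 85, 84, 83, 82, 81, 80, 79, 78, 77, 76, 75, 74, 73, 72, 71, 70, 69, 67, 66, 65, 64, 63, 62, 61, 60, 59, 57, 56, 55, 54, 53, 52, 51, 50, 49, 48, 47, 46, 45, 44, 43, 42, 41, 40, 39, 38, 37, 36, 35, 34, 33, 32, 31, 30, 29, 28, 27,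 25, 24, 23, 22, 21, 20, 19, 18, 17, 16, 15, 14, 13, 11, 10, 9, 8, 7, 6, 5, 4, 3, 2, 1, 108, 68, 58, 26, 12, 0]⟩
def known8 : H23.DC.Known := ⟨[(5, 82), (5, 39), (5, 81), (5, 38), (5, 80), (5, 37), (5, 79), (5, 36), (5, 78), (5, 35), (4, 77), (4, 34), (4, 76), (4, 33), (4, 75), (4, 32), (3, 74), (3, 31), (3, 73), (3, 30), (3, 72), (3, 29), (2, 71), (2, 28), (2, 70), (2, 27), (2, 69), (2, 26), (1, 68), (1, 25), (1, 67), (1, 24), (1, 23), (1, 23), (1, 22), (1, 22), (1, 21), (1, 21), (1, 66), (1, 20), (1, 19), (1, 19), (1, 18), (1, 18), (1, 17), (1, 17), (1, 16), (1, 16), (1, 15), (1, 15), (1, 14), (1, 14), (0, 0), (0, 0), (0, 1), (0, 2), (0, 3), (0, 3)], [113, 112, 111, 110, 109, 107, 106, 105, 104, 103, 102, 101, 100, 99, 98, 97, 96, 95, 94, 93, 92, 91, 90, 89, 88, 87, 86, 85, 84, 83, 82, 81, 80, 79, 78, 77,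 76, 75, 74, 73, 72, 71, 70, 69, 67, 66, 65, 64, 63, 62, 61, 60, 59, 57, 56, 55, 54, 53, 52, 51, 50, 49, 48, 47, 46, 45, 44, 43, 42, 41, 40, 39, 38, 37, 36, 35, 34, 33, 32, 31, 30, 29, 28, 27, 25, 24, 23, 22, 21, 20, 19, 18, 17, 16, 15, 14, 13, 11, 10, 9, 8, 7, 6, 5, 4, 3, 2, 1, 108, 68, 58, 26, 12, 0]⟩
def known9 : H23.DC.Known := ⟨[(6, 41), (6, 41), (6, 83), (6, 40), (5, 82), (5, 39), (5, 81), (5, 38), (5, 80), (5, 37), (5, 79), (5, 36), (5, 78), (5, 35), (4, 77), (4, 34), (4, 76), (4, 33), (4, 75), (4, 32), (3, 74), (3, 31), (3, 73), (3, 30), (3, 72), (3, 29), (2, 71), (2, 28), (2, 70), (2, 27), (2, 69), (2, 26), (1, 68), (1, 25), (1, 67), (1, 24), (1, 23), (1, 23), (1, 22), (1, 22), (1, 21), (1, 21), (1, 66), (1, 20), (1, 19), (1, 19), (1, 18), (1, 18), (1, 17), (1, 17), (1, 16), (1, 16), (1, 15), (1, 15),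 (1, 14), (1, 14), (0, 0), (0, 0), (0, 1), (0, 2), (0, 3), (0, 3)], [129, 128, 127, 126, 125, 124, 123, 122, 121, 120, 119, 118, 117, 116, 115, 114, 113, 112, 111, 110, 109, 107, 106, 105, 104, 103, 102, 101, 100, 99, 98, 97, 96, 95, 94, 93, 92, 91, 90, 89, 88, 87, 86, 85, 84, 83, 82, 81, 80, 79, 78, 77, 76, 75, 74, 73, 72, 71, 70, 69, 67, 66, 65, 64, 63, 62, 61, 60, 59, 57, 56, 55, 54, 53, 52, 51, 50, 49, 48, 47, 46, 45, 44, 43, 42, 41, 40, 39, 38, 37, 36, 35, 34, 33, 32, 31, 30, 29, 28, 27, 25, 24, 23, 22, 21, 20, 19, 18, 17, 16, 15, 14, 13, 11, 10, 9, 8, 7, 6, 5, 4, 3, 2, 1, 108, 68, 58, 26, 12, 0]⟩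
def known10 : H23.DC.Known := ⟨[(6, 41), (6, 41), (6, 83), (6, 40), (5, 82), (5, 39), (5, 81), (5, 38), (5, 80), (5, 37), (5, 79), (5, 36), (5, 78), (5, 35), (4, 77), (4, 34), (4, 76), (4, 33), (4, 75), (4, 32), (3, 74), (3, 31), (3, 73), (3, 30), (3, 72), (3, 29), (2, 71), (2, 28), (2, 70), (2, 27), (2, 69), (2, 26), (1, 68), (1, 25), (1, 67), (1, 24), (1, 23), (1, 23), (1, 22), (1, 22), (1, 21), (1, 21), (1, 66), (1, 20), (1, 19), (1, 19), (1, 18), (1, 18), (1, 17), (1, 17), (1, 16), (1, 16), (1, 15), (1, 15), (1, 14), (1, 14), (0, 0), (0, 0), (0, 1), (0, 2), (0, 3), (0, 3)], [133, 132, 131, 130, 129, 128, 127, 126, 125, 124, 123, 122, 121, 120, 119, 118, 117, 116, 115, 114, 113, 112, 111, 110, 109, 107, 106, 105, 104, 103, 102, 101, 100, 99, 98, 97, 96, 95, 94, 93, 92, 91, 90, 89, 88, 87, 86, 85, 84, 83,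 82, 81, 80, 79, 78, 77, 76, 75, 74, 73, 72, 71, 70, 69, 67, 66, 65, 64, 63, 62, 61, 60, 59, 57, 56, 55, 54, 53, 52, 51, 50, 49, 48, 47, 46, 45, 44, 43, 42, 41, 40, 39, 38, 37, 36, 35, 34, 33, 32, 31, 30, 29, 28, 27, 25, 24, 23, 22, 21, 20, 19, 18, 17, 16, 15, 14, 13, 11, 10, 9, 8, 7, 6, 5, 4, 3, 2, 1, 108, 68, 58, 26, 12, 0]⟩
def rules0 : List Rule := [
.rev 1 0,
.ded (.edge 2 0 [] [.fwd 0 [] [],.lett 84] [.lett 84,.fwd 1 [42,44,47,46,42,44,46,47,44] [],.lett 84] [] [] [2,0,2,0,2,2,0,2,0,2,2,0,2,0,2,2,0,2,2]),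
.rev 3 2,
.ded (.edge 4 0 [] [.fwd 0 [] [],.lett 87] [.lett 87,.fwd 1 [48,49,50,55,42,44,47,46,42,44,46,47,44] [],.lett 88] [] [] [2,0,2,2]),
.rev 5 4,
.ded (.edge 6 0 [4,6,9,10,13,0,1,0,1,0,2,0,2,0,1,0,1,0,1,0] [.fwd 0 [48,50,51,52,53,55,56,42,43,42] [],.lett 84] [.lett 84,.fwd 1 [49,50,46,42,43,43,47,47,44,47,46,47] [],.lett 84] [] [] [2,2,0,2,0,2,0,2,2,3,0,2,0,3]),
.rev 7 6,
.ded (.stab 1 14 [3,4,6,7,8,9,11,13,0,2,0,1,0,1,0,1,0,1,0,1,0,1,0,2,0,2,0,1,0,1,0,2,0,1,0,1,0,1,0,1,0,1,0,1,0,2,0,1,0,1,0,1,0,1,0,1] [.fwd 3 [48,50,51,52,53,54,55,56,46,43,47,46,42,46,47,44,47,47] [],.lett 84,.fwd 1 [48,50,52,54,55,56,46,42,46,47,46,47,44,47,44] [],.lett 84,.fwd 0 [48,49,51,42] [2,0,2,0,2,2,0,2,0,2,2,0,2,0,2,2,0,2,2,3,0,3],.lett 84]),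
.inv 1 14 14,
.ded (.edge 8 0 [3,6,7,8,9,13,0,1,0,1,0,2,0,2,0,1,0,1,0,1,0] [.fwd 0 [48,49,51,52,54,55,42,43,42] [],.lett 84] [.lett 84,.fwd 1 [51,54,55,42,43,42,46,42,44,46,42,43,43] [],.lett 84] [] [] [2,2,0,2,0,2,0,2,2,0,2,0]),
.rev 9 8,
.ded (.stab 1 15 [4,9,10,11,12,0,2,0,1,0,2,0,1,0,2,0,1,0,1,0,1,0,1,0,1,0,1,0,1,0,2,0,1,0,2,0,1,0,2,0,2,0,2,0,2,0,1,0,1,0,1,0,2,0,2,0,1,0,2] [.fwd 3 [50,55,42,43,43,47,46,42,46,42,46,43] [],.lett 84,.fwd 1 [50,51,53,55,42,44,47,47,46,42,43,42,46,47,44,46,43] [],.lett 84,.fwd 0 [49,50,53,54,55,46] [2,0,2,0,2,2,0,2,0,2,2,0,2,3,0,2,2,0,2,2,3],.lett 84]),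
.inv 1 15 15,
.ded (.stab 1 16 [3,4,5,8,9,10,11,13,1,0,2,0,2,0,1,0,2,0,1,0,1,0,1,0,1,0,2,0,2,0,2,0,2,0,2,0,1,0,2,0,1,0,2,0,2,0,2,0,2,0,2,0,2,0,1,0,2,0] [.fwd 8 [] [],.fwd 7 [49,51,52,53,54,55,56,42,47,47,46,43,47,44,46,47,44] [14,15,14]]),
.inv 1 16 16,
.loop 1 17 2 [48,49,51,53,54,55,56,42,46,43,47,47,44,46,42] [15,15,14,15,14,15],
.inv 1 17 17,
.loop 1 18 8 [49,52,53,54,55,56,47,46,43,47,44,47,46,43,47,44] [14,15,14],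
.inv 1 18 18,
.ded (.stab 1 19 [3,4,5,8,9,10,11,13,1,0,2,0,2,0,1,0,2,0,1,0,1,0,1,0,1,0,2,0,2,0,2,0,2,0,2,0,1,0,2,0,1,0,2,0,2,0,2,0,2,0,2,0,2,0,1,0,2,0] [.fwd 8 [] [],.fwd 7 [48,49,50,54,56,43,42,46,42,44,47,44,46,42,43,47] [17,14,14]])]
def rules1 : List Rule := [
.inv 1 19 19,
.ded (.stab 1 20 [3,6,7,9,12,13,2,0,1,0,1,0,1,0,1,0,1,0,1,0,1,0,2,0,1,0,1,0,1,0,1,0,2,0,2,0,1,0,1,0,1,0,1,0,2,0,1,0,2,0,2,0,2,0,1] [.fwd 3 [51,52,55,42,47,46,43,47,47,46,47,44,47,44,47] [],.lett 84,.fwd 1 [53,54,56,42,46,42,46,42,43,47,46,42,43] [15,15],.lett 84,.fwd 0 [49,53,54,55,56,43,42,43] [2,2,0,2,0,2,2,0,2,0,2,0,2,2,0,2,0,2,2,0,2],.lett 84]),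
.inv 1 20 66,
.loop 1 21 4 [48,50,51,52,56,42,44,47,44,46,42,46,42,44,47] [20,66,14,20,20,14,20,66],
.inv 1 21 21,
.loop 1 22 6 [49,50,52,54,55,56,42,43,43,47,46,42,46,47,44,47,47,44] [14,20,16,16,66,66,14,20,20,16,16,66,14],
.inv 1 22 22,
.loop 1 23 4 [43,47,46,47,47,46,42,43,47,44,47,46,47] [20,66,14,66,14,20,14,20,66],
.inv 1 23 23,
.loop 1 24 2 [48,50,51,54,55,56,46,47,44,47,46,43,47,46,42,46,43] [14,21,23,20,16,66,14,23,21,23,20,23,20,21,23,20,16,16,66,23,21,14],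
.inv 1 24 67,
.ded (.stab 1 25 [3,7,10,11,12,1,0,2,0,2,0,1,0,2,0,2,0,2,0,1,0,2,0,2,0,1,0,2,0,1,0,1,0,2,0,1,0,2,0,2,0,2,0,1,0,1,0,2,0,1,0,1,0,1,0,1,0,2,0] [.fwd 7 [] [],.fwd 2 [48,49,51,53,54,55,56,46,47,46,43,47,46,47,46,42,44] [14,20,16,21,67,14]]),
.inv 1 25 68,
.ded (.edge 10 1 [3] [] [.lett 87,.fwd 5 [49,50,51,52,56,42,46,43,47,44,46,42,43,47,47,46,47] [],.lett 87,.fwd 5 [51,53,54,56,43,42,46,47,46,42,44,47,44,47,46,47] [20,15,66],.lett 88] [] [] [20,14]),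
.rev 11 10,
.rev 13 12,
.ded (.stab 2 26 [4,5,6,7,8,9,11,13,1,0,1,0,2,0,1,0,1,0,1,0,1,0,2,0,1,0,2,0,1,0,2,0,1,0,2,0,2,0,2,0,1,0,1,0,1,0,1] [.fwd 13 [49,50,53,42,43,43,47,44,47,44,47,46,42,46,43] [],.lett 85,.fwd 1 [42,44,46,47,44,47,44,46,43,47,44] [21,14],.lett 86,.fwd 0 [] [2,2,0,2,0,2,0,2,0,2,2,0,2,2,0,2,0,2,0,2,2,0,2,0,2,2,0,2],.lett 85,.fwd 12 [49,50,51,52,54,55,56,42,44,46,42,43,42,44,47,46,47,47,46] [23,16,25,22],.lett 86]),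
.inv 2 26 69,
.ded (.stab 2 27 [7,8,9,10,11,2,0,1,0,1,0,1,0,1,0,2,0,1,0,1,0,2,0,2,0,2,0,2,0,1,0,2,0,1,0,1,0,1,0,1,0,2,0,1,0,2,0,1,0,1,0,2,0,1,0,1] [.fwd 13 [53,55,43,42,44,47,46,43,47,47,44,46,43] [],.lett 86,.fwd 1 [] [22,68,23,15],.lett 85,.fwd 0 [] [2,2,0,2,0,2,0,2,0,2,0,2,0,2,2,0,2,0,2,0],.lett 86,.fwd 12 [49,51,42,43,47,47,44,47,44,47,47,46,43,47] [20,25,18],.lett 85]),
.inv 2 27 70]
def rules2 : List Rule := [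
.ded (.stab 2 28 [3,4,5,6,9,10,13,2,0,2,0,1,0,1,0,2,0,1,0,1,0,2,0,2,0,2,0,1,0,1,0,2,0,2,0,2,0,2,0,1,0,1,0,1,0,1,0,2,0,1,0,2,0,2,0,2,0,1,0,1,0,1] [.fwd 13 [49,50,51,54,42,44,47,47,46,42,43,42,44,47,47,44] [],.lett 85,.fwd 1 [49,50,52,55,56,47,46,47,47,46,47,44,46,43,47,46] [23,68,68,67],.lett 86,.fwd 0 [51,52,55,43,47] [2,2,0,2,0,2,0,2,0,2,2,0,2,2,0,2,0],.lett 85,.fwd 12 [49,50,52,53,55,56,43,42,46,42,43,42,46,42,44] [16,23,22],.lett 86]),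
.inv 2 28 71,
.ded (.edge 14 1 [1] [.fwd 12 [] [],.lett 84] [.lett 84,.fwd 13 [48,49,51,53,55,46,42,43,47,47,46,42,46,42,46,47,47] [],.lett 84] [] [] [15,17,18]),
.rev 15 14,
.ded (.edge 16 1 [1] [.fwd 12 [] [],.lett 87] [.lett 87,.fwd 13 [48,49,52,53,54,55,56,42,44,46,47,46,47,47,44,47,47,46] [],.lett 88] [] [] [14]),
.rev 17 16,
.ded (.edge 18 1 [4,7,10,12,13,1,0,1,0,1,0,1,0,2,0,1,0,2,0,2,0,1,0,1,0,2,0,1,0,2,0,1] [.fwd 12 [48,49,50,51,52,55,56,42,43,43] [],.lett 88] [.lett 87,.fwd 13 [50,53,54,55,56,42,43,47,47,46,42,43,47,46,47] [],.lett 87] [] [] [14,22,68,17,68]),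
.rev 19 18,
.ded (.edge 20 1 [3,5,6,8,9,10,12,13,1,0,1,0,1,0,2,0,2,0,1,0,1,0,1,0] [.fwd 12 [49,52,55,42,43,42] [],.lett 84] [.lett 84,.fwd 13 [50,53,56,46,47,47,44,47,44,46,43] [],.lett 84] [] [] [23,21,17,68]),
.rev 21 20,
.ded (.edge 22 1 [3,5,6,7,8,9,10,1] [.fwd 12 [48,50,52,56] [],.lett 88] [.lett 87,.fwd 13 [48,49,55,56,42,43,43,47,44,46,47,47] [],.lett 87] [] [] [17,22,14]),
.rev 23 22,
.ded (.edge 24 2 [5,8,9,11,13,0,1,0,2,0,1,0,1,0,1,0,2,0,2,0,1,0,1,0,1,0,1,0,1,0,2,0,2,0,2,0,2,0,2,0,1,0,1,0,1] [.fwd 20 [48,49,50,52,54,55,42,44,47,46,42,43,42,44] [70,71],.lett 84,.fwd 20 [48,52,54,42,47,44,46,43,47,44,47,46,47,44] [28,26,28,26,70,71],.lett 84] [.lett 84] [] [] []),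
.rev 25 24,
.rev 27 26,
.ded (.edge 28 1 [4,6,9,10,11,13,1,0] [.fwd 12 [49,50,51,53,55,42] [],.lett 84] [.lett 84,.fwd 27 [49,52,53,55,56,42,43,42,44,46,43,47,46,42,43,43,47] [],.lett 84] [] [] [66,15,21]),
.rev 29 28,
.ded (.edge 30 1 [3,4,5,7,11,12,13,1,0,2,0,1,0,1,0,1,0,2,0,1,0,1,0,2,0,2,0,2,0,2,0,1,0,1,0,2,0,1,0,2,0,1,0,1] [.fwd 12 [51,52,53,54,55,42,43,42,46,42,43] [],.lett 88] [.lett 87,.fwd 27 [48,49,50,52,53,56,42,46,42,43,42,44,47,47,46,43,47] [],.lett 87] [] [] [14,66,23,14]),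
.rev 31 30,
.ded (.edge 32 1 [4,6,7,10,2,0,1,0,2,0,2,0,1,0,1,0,1,0,1,0,1,0,2,0,2,0,1,0,1,0,1,0,1,0,1,0,2,0,2,0,1,0,1,0,1] [.fwd 12 [48,53,55,43,42,43,42,43] [],.lett 85,.fwd 30 [48,49,50,53,54,55,56,47,44,47,47,46,43,47,44,47,46] [26,27,26,28,28,26,26,69,71,70,69,69,71,69,69],.lett 86] [.lett 85,.fwd 27 [50,54,42,46,42,43,42,44,47,47,46,42,44,46] [],.lett 86] [] [] [16,19,14,66])]
def rules3 : List Rule := [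
.rev 33 32,
.ded (.edge 34 1 [3,6,7,10,12,2,0,1,0,2,0,2,0,1,0,1,0,1,0,1,0,1,0,1,0,2,0,1,0,2,0,2,0,1,0,1,0,2,0,1,0,2,0,1] [.fwd 12 [50,55,43,42,43,43] [],.lett 86,.fwd 30 [48,49,50,51,52,54,55,47,44,47,47,46,42,43,47,46,43,47] [26,27,26,27,26,28,27,69,71,70,69,69,71,69,69],.lett 85] [.lett 86,.fwd 27 [48,50,52,54,44,46,42,43,47,47,44,46,47,47,44,47] [],.lett 85] [] [] [21,16,67,14]),
.rev 35 34,
.ded (.edge 36 1 [4,5,8,11,13,0,2,0,2,0,1,0,1,0,2,0,2,0] [.fwd 12 [48,49,52,53,54,56,42,47] [],.lett 86,.fwd 30 [48,50,52,55,43,42,46,43,47,46,42,44] [27,26,28,26,27,26,26,26,69,71,70,69,69,71,69,69],.lett 85] [.lett 86,.fwd 27 [48,50,55,46,43,47,44,46,43,47,47,44,47,47] [],.lett 85] [] [] [14,16,23,16,68]),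
.rev 37 36,
.ded (.edge 38 1 [3,4,7,9,11,13,1,0,1,0,1,0,2,0,2,0,1,0,1,0,1,0,1,0,1,0,2,0,2,0,1,0,1,0,1] [.fwd 12 [50,51,52,53,54,55,56,42,43,42,43] [],.lett 86,.fwd 30 [52,53,56,47,47,44,47,44,46,43,47,44,47,44,47] [26,26,27,27,27,26,26,69,71,70,69,69,71,69,69],.lett 85] [.lett 86,.fwd 27 [53,56,42,44,46,42,43,42,46,47,44,47,47,46] [],.lett 85] [] [] [22,68,14]),
.rev 39 38,
.ded (.edge 40 1 [4,5,9,10,0,2,0,2,0,1,0,1,0,2,0,2,0] [.fwd 12 [49,51,54,55,42,47] [],.lett 84] [.lett 84,.fwd 27 [49,50,51,52,53,56,42,47,46,43,47,47,46,47,44,46,43,47] [],.lett 84] [] [] [14,21,66,17,23]),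
.rev 41 40,
.ded (.edge 42 1 [3,5,7,8,9,12,2,0,1,0,2,0,2,0,1,0,1,0,1] [.fwd 12 [48,51,52,54,56,43] [],.lett 86,.fwd 28 [50,51,52,42,43,42,44,47,47,46,43,47,44,47,44,46] [26,27,26,26,69,69,70,70,71,71],.lett 85] [.lett 86,.fwd 27 [49,51,52,55,46,47,46,43,47,47,46,43,47,46] [],.lett 85] [] [] [67,21,17,14]),
.rev 43 42,
.ded (.edge 44 1 [5,6,7,11,1,0,2,0,2,0,2,0,1,0,1,0,1,0,1,0,1,0,2,0,2,0,1,0,2,0] [.fwd 12 [48,50,52,53,42,44,46,42] [],.lett 86,.fwd 28 [48,52,53,55,44,47,46,47,44,47,46,47,47] [26,26,27,27,28,26,27,69,69,70,70,71,71],.lett 85] [.lett 86,.fwd 27 [49,50,54,47,46,47,46,42] [],.lett 85] [] [] [15,17,67,21,19]),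
.rev 45 44,
.ded (.edge 46 1 [3,5,6,9,12,2,0,1,0,2,0,2,0,1,0,1,0,1,0] [.fwd 12 [48,50,52,53,54,56,43,42] [],.lett 86,.fwd 28 [51,52,53,54,56,42,43,47,47,46,47,44,47,46] [27,26,26,28,28,27,69,69,70,70,71,71],.lett 85] [.lett 86,.fwd 27 [50,53,54,55,42,47,46,42,46,42,44,47,46,43] [],.lett 85] [] [] [18,67,21]),
.rev 47 46,
.ded (.stab 3 29 [3,5,7,9,0,1,0,2,0,1,0,1,0,2,0,2,0,2,0,1,0,2,0,2,0,2,0,1,0,1,0,2,0,2,0,2,0,1,0,1] [.fwd 27 [52,54,55,42,46,42,43,47,44,46,43,47,46,43] [],.lett 87,.fwd 12 [50,51,52,53,55,47,47] [14,16,66,23,68],.lett 88,.fwd 40 [48,50,51,53,54,55,56,44,46,42,46,47,46,43,47] [26,26,28,27,26,71,70,71],.lett 87]),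
.inv 3 29 72,
.ded (.stab 3 30 [7,8,10,0,2,0,2,0,2,0,1,0,2,0,1,0,1,0,1,0,1,0,1,0,1,0,2,0,1,0,1,0,1,0,2,0,2,0,1,0,1,0,2,0,2,0,2,0,1,0,1,0,2,0,1] [.fwd 27 [48,49,50,52,56,42,46,47,46,47,47,44,46,42,44,46] [],.lett 84,.fwd 12 [48,49,51,52,54,55,43,42,43,43] [17,21,18,67,23],.lett 84,.fwd 28 [48,51,53,54,56,42,46,42,43,42,43,47,47,44,46,42,44] [27,26,27,26,69,69,70,70,71,71],.lett 84]),
.inv 3 30 73,
.ded (.stab 3 31 [5,6,8,10,11,12,2,0,2,0,2,0,1,0,1,0,1,0,1,0,1,0,2,0,1,0,2,0,1,0,1,0,1,0,1,0,2,0,1,0,1,0,1,0,2,0,1,0,1,0,1,0,2] [.fwd 27 [52,53,42,47,46,42,46,47,47,46,47] [],.lett 84,.fwd 12 [51,52,55,43] [16,18,66,21],.lett 84,.fwd 28 [48,49,52,43,47,47,46,42,46,47,47,46] [27,28,26,27,28,26,69,69,70,70,71,71],.lett 84])]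
def rules4 : List Rule := [
.inv 3 31 74,
.ded (.edge 48 1 [7,9,11,13,1,0,1,0,1,0,2,0,2,0,1,0,1,0,1] [.fwd 12 [48,49,50,51,42,43] [],.lett 86,.fwd 28 [48,50,54,56,42,44,47,44,47,47,46,42,43] [26,28,26,27,26,69,69,70,70,71,71],.lett 85] [.lett 86,.fwd 27 [48,50,47,44,46,47,47,44,47,47,44,46,42] [],.lett 85] [] [] [19,68,23,67]),
.rev 49 48,
.ded (.edge 50 1 [4,5,6,7,10,1,0,2,0,1,0,2,0,2,0,1,0,1,0,1,0,1,0,1,0,2,0,2,0,1,0,1,0,1] [.fwd 26 [48,52,54,55,43,42,43] [],.lett 84] [.lett 84,.fwd 27 [48,53,55,56,44,46,42,46,42,43,43,47,44] [],.lett 84] [] [] [16,22,18]),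
.rev 51 50,
.ded (.edge 52 1 [7,10,1,0,2,0,1,0,2,0,2,0,1,0,1,0,1,0] [.fwd 26 [50,51,55,43,42] [],.lett 87] [.lett 88,.fwd 27 [50,52,53,54,55,56,46,47,46,47,46,42,46,42,43,43] [],.lett 87] [] [] [14,66,17,21,19]),
.rev 53 52,
.ded (.edge 54 1 [3,4,5,7,11,12,13,1,0,1,0,1,0,1,0,1,0,2,0,1,0,2,0,2,0,1,0,1,0,2,0,1,0,2,0,1,0] [.fwd 26 [50,51,52,53,55,56,47,47] [],.lett 87] [.lett 87,.fwd 27 [48,50,52,54,47,46,42,46,42,46,43,47,44,47,44] [],.lett 88] [] [] [18,66,16,66]),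
.rev 55 54,
.ded (.edge 56 1 [4,5,7,11,13,1,0,1,0] [.fwd 26 [51,55,42] [],.lett 87] [.lett 87,.fwd 27 [52,54,56,43,43,47,47,44,46,42,43,47,44,47] [],.lett 88] [] [] [15,19,67,68,21]),
.rev 57 56,
.rev 59 58,
.ded (.edge 60 1 [5,6,11,13,1,0] [.fwd 12 [50,53,54,42] [],.lett 87] [.lett 87,.fwd 59 [49,50,51,52,53,54,56,42,44,47,46,43,47,47,46,47,44,46,43] [],.lett 88] [] [] [19]),
.rev 61 60,
.ded (.stab 4 32 [3,4,6,7,12,13,1,0,2,0,1,0,1,0,2,0,2,0,1,0,2,0,1,0,2,0,1,0,2,0,2,0,2,0,1,0,1,0,2,0,2,0,2,0,1,0,2,0] [.fwd 59 [50,51,46,47,46,43,47,47,46,42,46] [],.lett 87,.fwd 12 [48,49,50,51,52,53,55,56,42] [],.lett 88,.fwd 60 [49,51,53,42,46,47,47,44,47,47,46,42,44,47] [28,28,26,69],.lett 87]),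
.inv 4 32 75,
.ded (.stab 4 33 [4,7,13,0,1,0,2,0,1,0,2,0,1,0,2,0,1,0,2,0,1,0,2,0,2,0,1,0,2,0,1,0,1,0,2,0,1,0,1,0,1,0,2,0,1,0,2,0,1,0,2,0,1] [.fwd 59 [50,51,54,43,42,46,42,44,47,47,46,42] [],.lett 84,.fwd 10 [] [16,68,14],.lett 84,.fwd 58 [48,49,51,52,53,56,44,47,46,42,44,47] [25,20,19],.lett 84]),
.inv 4 33 76,
.ded (.stab 4 34 [6,11,12,13,1,0,1,0,1,0,1,0,2,0,2,0,2,0,1,0,2,0,2,0,2,0,1,0,2,0,1,0,2,0,1,0,1,0,1,0,2,0,1,0,1,0,1,0,1,0,2,0,1,0,1,0] [.fwd 59 [48,51,53,54,55,44,47,44,47,47,46,47,47,44,46,47] [],.lett 84,.fwd 10 [48,49,52,53,55,56,42,47] [19,23,14],.lett 84,.fwd 58 [50,51,53,54,43,47,44,47,46,42,43,42,44,47,46] [20,21,24],.lett 84]),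
.inv 4 34 77]
def rules5 : List Rule := [
.ded (.edge 62 1 [4,6,8,9,10,11,12,13,1,0,2,0,1,0] [.fwd 2 [52,53,55,56,42,47,44,46,42,43,47,46,42,46,42,44] [21,67,14],.lett 85,.fwd 58 [54,56,43,42,46,42,46,47,46,47,47,44] [24,20,14,23],.lett 86] [.lett 85,.fwd 59 [50,51,52,54,42,43,43,47,46,47,44,46,42,43,42,43] [],.lett 86] [] [] [16,68]),
.rev 63 62,
.ded (.edge 64 1 [3,5,6,7,8,9,10,1,0,2,0,2,0,1,0,2,0,2,0,1,0,1,0,1] [.fwd 58 [50,51,52,54,55,56,43] [],.lett 84] [.lett 84,.fwd 13 [48,49,42,46,43,47,44,46,43,47,46,42,46,47] [],.lett 84] [] [] [68,16,66]),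
.rev 65 64,
.ded (.edge 66 1 [3,6,8,11,12,1,0,2,0,1,0,1,0,1,0,2,0,2,0,1,0,1,0,1,0,1,0,1,0,2,0,2,0,1,0,1,0,1] [.fwd 58 [48,49,50,52,53,56,42,43,42,43] [],.lett 87] [.lett 87,.fwd 59 [50,53,54,42,43,42,43,42,44,46,43,47,44] [],.lett 88] [] [] [17,66]),
.rev 67 66,
.rev 69 68,
.ded (.edge 70 1 [4,8,12,13,0,2,0,2,0,1,0,1,0,1,0,1,0,1,0,2,0,2,0,2,0,2,0,2,0,1,0,1,0,1] [.fwd 12 [48,51,53,44,46,43] [],.lett 86,.fwd 68 [48,55,43,42,43,42,44,47,46,42,43,47,46] [27,26,26,28,26,26,28],.lett 85] [.lett 86,.fwd 27 [50,52,54,55,44,46,43,47,46,47,44,47,44,47,46] [],.lett 85] [] [] [15,66,66,23,67]),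
.rev 71 70,
.ded (.stab 5 35 [4,5,6,7,10,11,13,2,0,1,0,1,0,2,0,2,0,1,0,2,0,1,0,2,0,2,0,2,0,2,0,1,0,2,0,1,0,1,0,1,0,1,0,1,0,1,0,2,0,1,0,1,0,1,0,1,0,2,0,1,0,1,0] [.fwd 70 [48,49,52,53,55,47,44,46,47,46,43,47,46,47,44] [],.lett 86,.fwd 27 [50,51,52,54,55,56,42,47,46,47,46,47,44,46,42,43,43] [31,29,31,30,29,29,73,73,74,72,73,73,72,74],.lett 85,.fwd 12 [48,53,54,56,43,42,43,42] [16,23,68,15,16],.lett 86,.fwd 68 [48,49,50,52,53,55,56,47,44,46,42,43,47,44,47,46,43] [26,27,26,26,27,26,26,28],.lett 85]),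
.inv 5 35 78,
.ded (.stab 5 36 [3,5,8,10,11,2,0,1,0,2,0,2,0,1,0,2,0,1,0,2,0,1,0,2,0,2,0,2,0,2,0,2,0,2,0,2,0,2,0,2,0,1,0,2,0,2,0,2,0,2,0,2,0,1,0,2] [.fwd 69 [52,53,54,42,46,47,46,42,46,47,44,47,44,47,46] [],.lett 85,.fwd 13 [48,50,52,53,54,43,47,44,47,46,47,44,47,46,43,47] [69,70,70,70,69],.lett 86,.fwd 12 [48,51,55,42,43,42,43] [16,68,68,22],.lett 85,.fwd 68 [50,51,52,55,42,44,46,47,44,46,47,47,44,46,47,46,43] [28,28,26,27,26,27,26,26],.lett 86]),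
.inv 5 36 79,
.ded (.stab 5 37 [3,6,8,13,0,2,0,2,0,2,0,2,0,2,0,2,0,1,0,1,0,1,0,2,0,2,0,1,0,1,0,1,0,2,0,1,0,1,0,2,0,2,0,1,0,2,0,2,0,2,0,2,0] [.fwd 69 [51,52,53,54,55,56,42,46,47,44,46,47,46,47,46,47,47] [],.lett 86,.fwd 13 [49,50,52,54,56,43,42,43,42,46,47,47,44,47,47] [69,70,70,71,69,69,70,71,70],.lett 85,.fwd 12 [50,54,55,47,47] [14,15,67,66,23],.lett 86,.fwd 68 [49,52,55,56,42,47,47,44,47,47,44,46,42,44] [28,27,26,26,26,26,28,26],.lett 85]),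
.inv 5 37 80,
.ded (.stab 5 38 [3,4,7,8,9,10,11,0,1,0,2,0,1,0,2,0,2,0,2,0,1,0,1,0,1,0,2,0,1,0,2,0,2,0,2,0,2,0,2,0,2,0,2,0,1,0,2,0,1,0,1,0,1,0,2,0,1,0,1,0,2] [.fwd 69 [48,52,54,55,42,47,47,44,47,47,46,47,44,46] [],.lett 85,.fwd 13 [51,53,55,42,43,42,46,42,46,47,46,42,46,43] [69,69,71,70,69,71,69],.lett 86,.fwd 12 [54,55,56,42,43,42,43] [16,68,68,22],.lett 85,.fwd 68 [50,51,52,53,47,44,46,42,46,43,47,46,42] [26,28,28,27,26,27,28],.lett 86]),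
.inv 5 38 81,
.ded (.stab 5 39 [4,6,9,10,11,12,2,0,2,0,2,0,1,0,1,0,1,0,2,0,2,0,2,0,2,0,2,0,2,0,1,0,1,0,2,0,2,0,2,0,2,0,1,0,1,0,2,0,2,0,1,0,2,0,2,0,1,0] [.fwd 70 [48,49,50,51,52,54,55,56,44,46,47,47,46,42,46,42,43,43] [],.lett 88,.fwd 31 [48,52,53,54,56,43,43,47,44,46,42,43,47,46,43,47,46] [31,29,31,30,29,29,73,72,72,74,73,73,74,73],.lett 87,.fwd 68 [48,50,53,55,44] [26,26,28,26,26,27,28,26,69,70,71,70,71,69,69],.lett 87]),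
.inv 5 39 82,
.ded (.edge 72 1 [4,5,7,8,10,11,13,1,0,1,0,1,0,2,0,2,0,1,0,1,0,1,0] [.fwd 12 [52,54,42,43,42] [],.lett 85,.fwd 68 [48,50,52,53,54,56,47,44,47,46,42,46,43,47,46,47] [28,26,27,28,26,26,28,26],.lett 86] [.lett 85,.fwd 27 [48,49,50,54,56,42,43,47,47,46,43,47,46,47,44,46,43] [],.lett 86] [] [] [66,23,68,66,67])]
def rules6 : List Rule := [
.rev 73 72,
.ded (.edge 74 1 [3,8,10,12,0,1,0,2,0,1,0,2,0,2,0,1,0,1,0,2,0,1,0,2,0,2,0,2,0] [.fwd 12 [51,53,55,42,47,47] [],.lett 85] [.lett 86,.fwd 72 [48,50,53,55,56,44,46,47,46,43,47,46,42,43,47,46,47] [],.lett 85,.fwd 27 [48,49,51,52,56,42,46,42,43,47,46,43,47,46,43,47,46,43] [30,29,29,30,30,73,74,72,74,72,72],.lett 86] [] [] [14,66,23,14,18]),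
.rev 75 74,
.ded (.edge 76 1 [3,5,7,9,12,1,0,1,0,1,0,1,0,2,0,1,0,2,0,2,0,1,0,1,0,2,0,1,0,2,0,1] [.fwd 12 [50,51,54,55,56,42,43,43] [],.lett 86,.fwd 68 [48,52,53,54,42,46,42,44,46,42,44,46,42,44,46,47,46] [28,27,27,26,28,27,26,26],.lett 85] [.lett 86,.fwd 27 [52,55,42,47,46,47,46,42,43,47,47,46] [],.lett 85] [] [] [16,17,21,67,23]),
.rev 77 76,
.ded (.edge 78 1 [3,7,12,2,0,1,0,2,0,2,0,1,0,1,0,1] [.fwd 12 [49,50,51,52,56,43] [],.lett 86] [.lett 85,.fwd 72 [42,46,47,47,44,47,47,46,43,47,47] [],.lett 86,.fwd 27 [49,52,53,54,56,42,44,46,42,44,46,47,47,46,42,43,42,43] [30,29,29,30,30,72,72,72,74,73,73],.lett 85] [] [] [68,23,67,14]),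
.rev 79 78,
.ded (.edge 80 1 [3,5,6,7,8,9,12,13,1,0,1,0,1,0,1,0,2,0,2,0,1,0,1,0,1] [.fwd 26 [49,54,56,42,43] [],.lett 85,.fwd 71 [48,49,52,53,42,46,42,44,47,44,46,42,43,42,46] [30,31,31,30,31,31,31,72,72,73,74,72,74],.lett 86] [.lett 85,.fwd 27 [48,50,56,44,47,46,47,44,47,47,46,43,47,47] [],.lett 86] [] [] [15,67,23,68,18]),
.rev 81 80,
.ded (.edge 82 1 [5,6,7,10,12,0,2,0,1,0,1,0,2,0,1,0,2,0,2,0,1,0,1,0,2,0,2] [.fwd 26 [49,50,51,52,54,55,43,43] [],.lett 86,.fwd 73 [48,49,51,55,42,47,46,42,46,43,47,44,46,47] [31,29,31,30,29,73,73,72,72,73],.lett 85] [.lett 86,.fwd 13 [51,52,42,46,43,47,46,42,43,47,46,47,47,46,42] [],.lett 85] [] [] [14,18,23,66,67]),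
.rev 83 82,
.ded (.edge 84 1 [6,1,0,2,0,1] [.fwd 58 [] [],.lett 85] [.lett 86,.fwd 72 [48,49,50,51,53,54,56,42,47,47,44,46,42,44,46,42] [],.lett 85,.fwd 27 [50,53,55,47,46,43,47,46,42,46,47,46,47,47] [30,29,29,30,30,72,73,72,73],.lett 86] [] [] [23,18,21,17]),
.rev 85 84,
.ded (.edge 86 2 [1] [.fwd 68 [] [],.lett 84] [.lett 84,.fwd 69 [50,53,54,56,42,43,43,47,46,47,46,47,44,47] [],.lett 84] [] [] [70,69,70,70,71,71]),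
.rev 87 86,
.ded (.edge 88 2 [4,7,10,13,1,0,1,0,1,0,1,0,2,0,1,0,2,0,2,0,1,0,1,0,2,0,1,0,2,0,1] [.fwd 68 [48,51,54,42,43,43] [],.lett 84] [.lett 84,.fwd 69 [49,52,53,42,44,47,47,44,47,47,44,46,42,43,43] [],.lett 84] [] [] [70,71,69,71,69,71,71,71]),
.rev 89 88,
.ded (.edge 90 2 [4,6,1,0] [.fwd 68 [49,55,56,42] [],.lett 88] [.lett 87,.fwd 82 [51,54,55,56,42,43,47,44,46,47,47,46,47,47,44,46] [],.lett 87] [] [] [27,28,27,27,28,26]),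
.rev 91 90,
.ded (.edge 92 2 [4,6,12,1] [.fwd 68 [50,52,54] [],.lett 84] [.lett 84,.fwd 69 [48,49,53,54,56,43,47,46,47,46,42,46,42] [],.lett 84] [] [] [70,69,70,70,69,69,71])]
def rules7 : List Rule := [
.rev 93 92,
.ded (.edge 94 2 [3,4,7,10,2,0,1,0,2,0,2,0,1,0,1,0,1,0] [.fwd 68 [52,54,55,43,42] [],.lett 87] [.lett 88,.fwd 69 [48,49,50,52,53,54,55,56,44,46,42,46,42,43,42,46,42] [],.lett 87] [] [] [71,69,70,71,71,69,70,71]),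
.rev 95 94,
.ded (.edge 96 2 [3,4,5,6,8,9,10,1,0,1,0,1,0,1,0,2,0,1,0,2,0,2,0,1,0,1,0,2,0,1,0,2,0,1,0,2,0,2,0,2,0,1,0,1,0,2,0,2,0] [.fwd 68 [49,50,51,53,42,43,43,47] [],.lett 84] [.lett 84,.fwd 69 [48,49,51,53,43,42,43,42,46,42,46,47,47,44,47] [],.lett 84] [] [] [69,71,70,71,70,71,69,70]),
.rev 97 96,
.ded (.edge 98 2 [12,2,0,1,0,2,0,2,0,1,0,1,0,1] [.fwd 68 [49,50,52,54,55,56,43] [],.lett 85] [.lett 86,.fwd 70 [49,50,51,53,55,56,47,44,47,46,47,44,47] [],.lett 85,.fwd 31 [49,53,43,42,43,47,46,43,47,46,42,43,47,44] [31,29,31,30,29,29,74,73,74,74,72,73,74,74],.lett 86] [] [] [26,26,28,26,26,27,28,26,69,71,71,71,71,71]),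
.rev 99 98,
.ded (.edge 100 2 [4,7,8,9,10,11,1,0,2,0,2,0,1,0,1,0,1,0,2,0,2,0,2,0,1,0,1,0,2,0,2] [.fwd 18 [52,53,43,47,44,47,47,46,47,46,47,47] [70,69,71],.lett 85,.fwd 68 [48,50,51,53,54,46,47,47,46,47,44,46,42,46,47,46] [27,26,27,26,26,27],.lett 86] [.lett 85,.fwd 69 [48,49,50,51,52,54,42,47,47,46,43,47,46,42,46,42,43] [],.lett 86] [] [] [69,71,71,69,71,71,70]),
.rev 101 100,
.ded (.edge 102 2 [3,7,8,9,10,11,13,1,0,1,0,1,0,2,0,2,0,1,0,1,0,1] [.fwd 68 [48,52,53,54,56,42,43] [],.lett 85] [.lett 86,.fwd 87 [48,49,52,55,42,43,42,46,42,46,42,46,42,44,47] [],.lett 85,.fwd 82 [49,50,52,53,54,55,43,47,46,42,44,46,47,47,46,42,46,42,46] [36,35,80,82,82,78,82],.lett 86] [] [] [27,28,27,27,28,26,69,70,69,70,70,71]),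
.rev 103 102,
.ded (.edge 104 2 [3,5,7,8,11,12,0,1,0,2,0,2,0,1,0,1,0,1,0,1,0,1,0,1,0,2,0,1,0,2,0,2,0,1,0,1,0,2,0,1,0,2,0,1] [.fwd 14 [48,50,51,56,44,46,42,46,42,43,42,44,46,47,47] [70,69,71],.lett 86,.fwd 68 [48,49,50,55,56,43,47,46,42,44,46,47,47,46,42,43,43] [28,27,26,26,26,26,27,26,27],.lett 85] [.lett 86,.fwd 69 [49,50,51,53,54,42,44,46,42,44,46,47,47,44,47,47,46] [],.lett 85] [] [] [70,70,69,69,71,71,71,71]),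
.rev 105 104,
.ded (.edge 106 2 [4,5,8,10,11,12,1,0,1,0,1,0,2,0,1,0,2,0,2,0,1,0,1,0,2,0,1,0,2,0,1,0,1,0,2,0,2,0,1,0,2] [.fwd 78 [49,51,52,55,42,47,46,47,46,42,46,47,44,47,47] [71,70,71],.lett 84] [.lett 84,.fwd 75 [49,51,52,53,54,56,42,43,47,46,43,47,44,47,47,44,46,47] [],.lett 84] [] [] [28,28,26,69,71,70,70,71,69]),
.rev 107 106,
.rev 109 108,
.ded (.edge 110 1 [1] [.fwd 12 [] [],.lett 85,.fwd 108 [49,52,53,54,55,56,42,43,43,47,47,44,47,46,47,47,46] [27,28,26,27,27,28,28],.lett 86] [.lett 85,.fwd 27 [50,52,42,43,47,44,47,46,43] [],.lett 86] [] [] [16,67,14,22,23]),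
.rev 111 110,
.ded (.edge 112 1 [1] [.fwd 12 [] [],.lett 86,.fwd 108 [49,50,54,47,46,43,47,46,47,47,46,42] [28,26,28,27,27,28,27],.lett 85] [.lett 86,.fwd 27 [48,49,50,51,54,46,47,44,46,47] [],.lett 85] [] [] [14,19,67,19]),
.rev 113 112]
def rules8 : List Rule := [
.ded (.stab 6 40 [7,9,10,13,0,1,0,1,0,1,0,2,0,2,0,2,0,1,0,1,0,1,0,2,0,2,0,2,0,1,0,2,0,2,0,2,0,2,0,2,0,2,0,2,0,2,0,1,0,2,0,2,0,2] [.fwd 110 [48,52,54,55,46,47,46,43,47,44,47,47,46,42,46,42] [],.lett 85,.fwd 27 [51,52,54,55,56,43,42,46,42,43,42,44,47,46,42,46] [29,30,31,31,30,29,74,73,72,73,73,72],.lett 86,.fwd 12 [48,49,50,51,55,56] [16,67,14,22,23],.lett 85,.fwd 108 [48,49,54,56,47,47,46,42,43,47,47,44,47,46] [27,27,27,26,27,27,27,26,27],.lett 86]),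
.inv 6 40 83,
.ded (.stab 6 41 [3,4,5,7,12,1,0,2,0,2,0,1,0,2,0,2,0,1,0,1,0,1,0,1,0,2,0,2,0,1,0,2,0,1,0,2,0,1,0,2,0,2,0,2,0,2,0,1,0,1,0,2,0,1,0] [.fwd 112 [49,50,51,55,43,42,46,47,44,46,43,47,47] [],.lett 86,.fwd 27 [49,50,51,55,46,42,43,47,46,47,47,44,46] [29,29,31,31,31,29,31,29,74,74,74,73,73,74],.lett 85,.fwd 12 [49,52,53,54] [14,15,16,19,67],.lett 86,.fwd 108 [48,51,54,55,42,44,46,42,44,46,42,46,47,47] [27,26,26,26,28,27,26,27,26],.lett 85]),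
.inv 6 41 41,
.ded (.edge 114 1 [9,10,11,13,1,0] [.fwd 12 [50,51,53,56,42] [],.lett 86,.fwd 108 [51,52,53,55,56,42,43,42,46,43,47,46,43,47,46] [27,26,26,26,26,26,26],.lett 85] [.lett 86,.fwd 27 [48,49,50,52,42,46,47,46,47,44,46,42,44,47] [],.lett 85] [] [] [23,14]),
.rev 115 114,
.ded (.edge 116 2 [1] [.fwd 68 [] [],.lett 87] [.lett 87,.fwd 109 [48,49,50,55,42,44,47,46,42,44,46,47,44] [],.lett 88] [] [] []),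
.rev 117 116,
.ded (.edge 118 2 [3,6,8,9,11,12,2,0,1,0,2,0,2,0,1,0,1,0,1] [.fwd 68 [50,51,53,54,56,43] [],.lett 84] [.lett 84,.fwd 109 [50,52,53,54,56,43,43,47,44,47,47,46,42,44] [],.lett 84] [] [] [70,70,70,71,71,69,71,70]),
.rev 119 118,
.ded (.edge 120 2 [3,4,5,6,7,8,11,12,1] [.fwd 68 [48,50,55] [],.lett 85,.fwd 88 [48,49,52,53,54,55,56,46,47,46,42,43,42,44,47,47] [36,37,35,39,37,36,80,82,81,79,82,79],.lett 86] [.lett 85,.fwd 109 [48,50,52,54,55,56,42,47,47,46,42,46,43,47,44,46] [],.lett 86] [] [] [69,70,70,69,69,70,69]),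
.rev 121 120,
.ded (.edge 122 2 [4,6,8,9,11,12,1] [.fwd 68 [48,49,50,51,52,55] [],.lett 86,.fwd 116 [48,49,50,51,53,42,43,47,46,47,46,42,46,42,43,42,43] [35,36,36,39,78,78,80,79,78],.lett 85] [.lett 86,.fwd 109 [49,50,51,53,55,42,43,47,46,42,44,47,44,46] [],.lett 85] [] [] [69,69,69,70,69,71,69,71,70]),
.rev 123 122,
.ded (.edge 124 2 [1] [.fwd 68 [] [],.lett 85,.fwd 118 [48,51,56,44,46,47,46,42,46,42,43,43] [37,38,35,39,80,78,79,82,81],.lett 86] [.lett 85,.fwd 109 [52,53,55,47,47,46,42,44,47,44,46,47,46] [],.lett 86] [] [] [70,71,70,70,71]),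
.rev 125 124,
.ded (.edge 126 2 [1] [.fwd 68 [] [],.lett 86,.fwd 120 [48,49,53,54,55,56,43,42,44,47,44,46,43,47,46,47,44,46] [39,39,35,35,38,78,80,78,79,79,82],.lett 85] [.lett 86,.fwd 109 [49,51,52,53,55,43,42,43,47,46,42,46,42,46,47,47] [],.lett 85] [] [] [69,69,69,70,69,69,70,70,70]),
.rev 127 126,
.ded (.edge 128 2 [4,5,6,7,9,10,12,1,0,1,0,1,0,2,0,2,0,1,0,1,0,1,0,1,0,1,0,2,0,2,0,1,0,1,0,1] [.fwd 68 [48,50,53,55,56,42,43,42,43] [],.lett 86,.fwd 120 [51,52,53,54,42,43,42,44,46,47,44,46,43,47,46,43,47] [35,37,39,39,37,37,78,80,78,79,79,82],.lett 85] [.lett 86,.fwd 109 [48,49,50,52,53,42,47,44,47,46,47,47,46,43,47,46,47] [],.lett 85] [] [] [69,70,70,69,69,70,69,70,71]),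
.rev 129 128]
def rules9 : List Rule := [
.ded (.edge 130 2 [4,5,6,9,10,13,1,0,1,0,1,0,2,0,2,0,1,0,1,0,1] [.fwd 68 [49,53,42,43] [],.lett 86,.fwd 120 [48,50,53,54,55,56,46,47,47,46,47,44,47,46,43,47,47] [36,35,37,39,78,80,78,79,79,82],.lett 85] [.lett 86,.fwd 109 [48,51,53,56,43,47,46,47,46,43,47,44,47,44,47] [],.lett 85] [] [] [70,71,70,69,69,70,69]),
.rev 131 130,
.ded (.edge 132 2 [3,5,6,7,8,9,13,1,0,1,0,2,0,2,0,1,0,1,0,1,0,1,0,1,0,2,0,2,0,1,0,1,0,1] [.fwd 22 [50,54,55,42,47,46,47,44,47,44,46,47,47,44] [70,69,70,70],.lett 85,.fwd 108 [50,51,52,54,55,42,46,47,46,42,46,47,46,47,47] [27,28,26,28,28,28,26,28,26],.lett 86] [.lett 85,.fwd 109 [51,52,56,42,47,46,42,43,47,46,42,44,46,42,43] [],.lett 86] [] [] [70,69,70,71,71,71,69,71]),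
.rev 133 132]

end H94.J4.Data
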