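import Mathlib
import Cfsg.Agent.H94.J4.Data.Big0
import Cfsg.Agent.H94.J4.Data.Big1
import Cfsg.Agent.H94.J4.Data.Big2
import Cfsg.Agent.H94.J4.Data.Big3
import Cfsg.Agent.H94.J4.Data.Big4
import Cfsg.Agent.H94.J4.Data.Big5
import Cfsg.Agent.H94.J4.Data.Big6

/-! The list of the tables (generated data). -/

set_option autoImplicit false

namespace H94.J4.Data

noncomputable def big : List (List (List ℕ)) := [b0, b1, b2, b3, b4, b5, b6, b7, b8, b9, b10, b11, b12, b13, b14, b15, b16, b17, b18, b19, b20, b21, b22, b23, b24, b25, b26, b27, b28, b29, b30, b31, b32, b33, b34, b35, b36, b37, b38, b39, b40, b41]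

end H94.J4.Data
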