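import Mathlib

/-! Letters, edges and relators (generated data). -/

set_option autoImplicit false
set_option maxRecDepth 100000
set_option linter.all false
set_option Elab.async false

namespace H94.J4.Data

noncomputable section

def numTab : ℕ := 42
def wordTab : List (List ℕ) := [
[0],
[1],
[2],
[3],
[4],
[5],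
[6],
[7],
[8],
[9],
[10],
[11],
[12],
[13],
[3,4,2,0,1,0,2,0,1,0,1,0,1,0,1,0,1,0,2,0,2,0,1,0,2,0,2,0,2,0,1,0,2,0,1,0,1,0,1,0,2,0,2,0,1,0,2,0,2,0,2,0,2,0],
[4,6,8,10,11,12,1,0,1,0,1,0,2,0,1,0,2,0,2,0,2,0,2,0,1,0,2,0,1,0,2,0,1,0,1,0,1,0,1,0,2,0,1,0,2,0,2,0,2],
[3,4,6,7,9,10,13,0,2,0,1,0,2,0,1,0,2,0,1,0],
[4,5,6,10,0,1,0,1,0,1,0,1,0,1,0,1,0,2,0,1,0,2,0,1,0,2,0,2,0,2,0,2,0,1,0,1,0,1,0,1,0,2,0,2,0,2,0,2,0,1,0,2,0],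
[3,4,5,7,8,12,13,0,2,0,2,0,1,0,1,0,1,0,2,0,2,0,1,0,2,0,2,0,2,0,1,0,1,0,2,0,1,0,1,0,1,0,1,0,1,0,2,0,2,0,1,0,2,0,2,0,2,0,2,0],
[3,8,9,10,11,2,0,2,0,2,0,2,0,2,0,2,0,1,0,1,0,1,0,1,0,2,0,1,0,1,0,1,0,1,0,1,0,2,0,1,0,1,0,2,0,2,0,2,0,1,0,2,0,2,0,2,0],
[1,0,1,0,1,0,1,0,2,0,1,0,1,0,2,0,2,0,2,0,1,0,1],
[4,7,2,0,1,0,1,0,1,0,2,0,1,0,1,0,1,0,2,0,2,0,1,0,2,0,2,0,2,0,1,0,1,0,1,0,2,0,1,0,1,0,2,0,2,0,2,0,1,0,2,0,2,0,2,0,1],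
[3,4,6,7,8,9,11,1,0,1,0,1,0,2,0,1,0,1,0,1,0,2,0,2,0,1,0,2,0,1,0,2,0,2,0,2,0,2,0,1,0,1,0,1,0,2,0,2,0,2,0,2,0,1,0,1,0],
[0,2,0,2,0,2,0,2,0,2,0,2,0,1,0,2,0,2,0,2,0,1,0,1,0,1,0,2,0,1,0,1,0,1,0,1,0,1,0,1,0],
[3,4,5,7,9,10,12,13,0,2,0,2,0,1,0,2,0,1,0,2,0,1,0,1,0,1,0,2,0,1,0,2,0,1,0,2,0,1,0,2,0,2,0,2,0,2,0,2,0,2,0,2,0,1,0,2,0,2,0],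
[3,4,6,8,10,12,13,0,2,0,2,0,1,0,2,0,1,0,1,0,1,0,1,0,1,0,1,0,1,0,1,0,2,0,2,0,2,0,2,0,2,0,1,0,1,0,1,0,1,0,2,0,1],
[6,7,10,11,13,1,0,1,0,1,0,1,0,1,0,2,0,2,0,1,0,1,0,1,0,1,0,1,0,1,0,1,0,1,0,2,0,2,0,1,0,1,0,2,0,1,0,2,0,1,0,1,0,2,0,1,0,1],
[3,4,6,7,10,11,2,0,1,0,2,0,2,0,2,0,1,0,2,0,2,0,1,0,2,0,1,0,1,0,1,0,1,0,1,0,2,0,1,0,2,0,2,0,2,0,1],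
[3,6,10,11,1,0,2,0,1,0,2,0,2,0,1,0,2,0,1,0,1,0,1,0,2,0,1,0,2,0,2,0,1,0,1,0,1,0,2,0,1,0,1,0,2,0,2,0,2,0,2,0],
[4,7,8,11,12,0,1,0,1,0,1,0,1,0,2,0,2,0,1,0,1,0,1,0,1,0,1,0,1,0,1,0,1,0,1,0,1,0,2,0,1,0,1,0,1,0,2,0,2,0,1,0,1,0,1,0,1,0,2,0,2,0,1],
[3,4,5,6,12,13,1,0,2,0,1,0,1,0,2,0,1,0,1,0,2,0,2,0,1,0,2,0,2,0,1,0,1,0,1,0,2,0,2,0,2,0,2,0,1,0,1,0,2,0,1,0,2,0,2],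
[3,6,7,8,11,0,2,0,1,0,1,0,1,0,2,0,1,0,1,0,1,0,2,0,2,0,2,0,1,0,2,0,2,0,1,0,1,0,1,0,1,0,2,0,1,0,1,0,1,0,2,0,1,0,2],
[11,13,2,0,1,0,1,0,1,0,2,0,2,0,2,0,2,0,1,0,1,0,1,0,1,0,1,0,1,0,2,0,1,0,2,0,2,0,2,0,2,0,1,0,1,0,2,0,2,0],
[8,9,10,1,0,2,0,2,0,2,0,1,0,1,0,1,0,2,0,2,0,2,0,2,0,1,0,1,0,2,0,1,0,2,0,2,0,2,0,2,0,1,0,1,0,1,0,1,0,1,0,2,0,2,0],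
[3,6,7,9,10,11,2,0,1,0,1,0,1,0,2,0,1,0,2,0,2,0,2,0,1,0,1,0,2,0,2,0,1,0,2,0,1,0,2,0,1,0,1,0,2,0,2,0,2,0,1,0,2,0,1,0,2,0,2,0,2],
[6,8,9,10,0,2,0,1,0,2,0,1,0,2,0,1,0,2,0,2,0,2,0,2,0,2,0,2,0,2,0,1,0,2,0,2,0,1,0,1,0,1,0,2,0,1,0,1,0,1,0,1,0,1,0,1,0,2],
[5,6,9,10,2,0,2,0,1,0,1,0,1,0,1,0,2,0,2,0,2,0,2,0,1,0,1,0,2,0,1,0,2,0,1,0,1,0,1,0,2,0,1,0,2,0,1,0,1,0,1,0,1,0,1,0,2],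
[5,11,2,0,1,0,1,0,2,0,1,0,1,0,1,0,2,0,2,0,2,0,2,0,2,0,1,0,2,0,1,0,2,0,1,0,1,0,1,0,1,0,2,0,1,0,1,0,2,0],
[6,9,10,11,1,0,2,0,1,0,1,0,1,0,2,0,1,0,1,0,1,0,2,0,1,0,2,0,2,0,2,0,1,0,1,0,1,0,2,0,2,0,1,0,1,0,2,0,1,0],
[4,5,7,10,11,12,1,0,1,0,2,0,2,0,2,0,2,0,2,0,2,0,2,0,2,0,1,0,1,0,2,0,2,0,2,0,1,0,1,0,1,0,2,0,1,0,1,0,1,0,2,0,1,0,2,0,1,0],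
[4,5,6,10,13,0,2,0,2,0,1,0,1,0,1,0,2,0,2,0,1,0,1,0,1,0,1,0,2,0,1,0,2,0,1,0,1,0,1,0,2,0,1,0,1,0,1,0,1,0,1,0,1,0,2,0,1,0,2,0,1],
[4,5,6,7,8,9,10,11,0,2,0,1,0,2,0,2,0,2,0,2,0,1,0,2,0,2,0,2,0,2,0,1,0,2,0,1,0,1,0,1,0,1,0,2,0,1,0,1,0,1,0,1,0,2,0,1,0],
[0],
[1,0,1,0,2,0,2,0,1,0,1,0,1],
[2,0,2,0,2,0,1,0,1,0,2,0,2],
[0,1,0,1,0,2,0,2,0,1,0,1,0,1,2,0,2,0,2,0,1,0,1,0,2,0,2,0],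
[2,0,2,0,2,0,1,0,1,0,2,0,2,0,1,0,1,0,2,0,2,0,1,0,1,0,1],
[0,2,0,2,0,2,0,1,0,1,0,2,0,2,0,0,0],
[4,5,8,10,11],
[3,5,6,7,9,10],
[5,6,9,11,12],
[3,4,5,7,9,11,13],
[3,4,9,11,13],
[3,4,5,6,8,9,10,12,13],
[3,6,12],
[3,4,5,6,7,11,12,13],
[5,9,10,11,12,13],
[4,5,8,10,11,1,0,1,0,1,0,2,0,2,0,2,0,2,0,1,0,1,0,2,0,1,0,1,0,1,0,2,0,2,0,1,0,1,0,1,0,2,0,1,0,1,0,1,0,1,0,2,0,2,0,2,0,2],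
[3,5,6,7,9,10,2,0,2,0,1,0,1,0,1,0,1,0,1,0,1,0,2,0,2,0,2,0,2,0,2,0,2,0,1,0,1,0,1,0,1,0,1,0,1,0,2,0,2,0,2,0,2,0,2,0,2,0,1,0,1,0],
[5,6,9,11,12,2,0,2,0,1,0,1,0,1,0,2,0,2,0,1,0,2,0,2,0,2,0,1,0,2,0,1,0,1,0,1,0,2,0,2,0,1,0,2,0,2,0,2,0,2],
[3,4,5,7,9,11,13,2,0,2,0,2,0,2,0,2,0,2,0,1,0,1,0,1,0,1,0,2,0,1,0,1,0,1,0,1,0,1,0,2,0,1,0,1,0,2,0,2,0,2,0,1,0,2,0,2,0,2,0],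
[3,4,9,11,13,2,0,2,0,1,0,2,0,2,0,1,0,2,0,2,0,2,0,1,0,2,0,1,0,2,0,1,0,2,0,2,0,1,0,2,0,1,0,1,0,2,0,2,0,2,0,1,0],
[3,4,5,6,8,9,10,12,13,0,1,0,1,0,1,0,2,0,2,0,2,0,2,0,1,0,1,0,2,0,1,0,1,0,1,0,2,0,2,0,1,0,1,0,1,0,2,0,1,0,1,0,1,0,1,0,2,0,2,0,2,0,2,0],
[3,6,12,2,0,1,0,2,0,2,0,2,0,1,0,1,0,2,0,2,0,2,0,2,0,2,0,1,0,1,0,1,0,1,0,1,0,2,0,2,0,1,0,2,0,2,0,1],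
[3,4,5,6,7,11,12,13,0,1,0,2,0,1,0,1,0,1,0,2,0,2,0,1,0,1,0,2,0,1,0,2,0,2,0,1,0,1,0,1,0,2,0,1,0,2,0],
[5,9,10,11,12,13,2,0,1,0,2,0,1,0,2,0,1,0,1,0,1,0,2,0,2,0,1,0,1,0,1,0,2,0,1,0,2,0,1,0,2,0,1,0,2,0,2,0,2,0,1,0,1,0,2,0,2,0],
[2,0,2,0,1,0,1,0,1,0,2,0,2,0,1,0,2,0,2,0,2,0,2],
[4,6,10,11,0,1,0,1,0,2,0,1,0,1,0,1,0,1,0,1,0,1,0,1,0,2,0,1,0,2,0,1,0,2,0,1,0,2,0,2,0,2,0,1,0,2,0,1,0,2,0,1,0,1,0],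
[3,4,8,9,10,13,2,0,1,0,2,0,2,0,2,0,2,0,1,0,1,0,1,0,1,0,1,0,2,0,2,0,2,0,2,0,2,0,2,0,2,0,2,0,1,0,2,0,1,0,1,0],
[6,9,10,11,2,0,2,0,1,0,2,0,2,0,1,0,2,0,1,0,2,0,2,0,1,0,1,0,2,0,2,0,2,0,2,0,2,0,2,0,2,0,2,0,1,0,1,0,2,0,2,0,2,0,2,0,2],
[3,4,7,8,10,13,2,0,1,0,1,0,1,0,2,0,1,0,2,0,2,0,2,0,2,0,2,0,1,0,2,0,1,0,1,0,2,0,1,0,1,0,1,0,2,0,1],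
[6,7,8,9,10,11,0,2,0,2,0,1,0,2,0,2,0,1,0,1,0,1,0,2,0,2,0,1,0,2,0,2,0,2,0,2,0,1,0,1,0,1,0,1,0,1,0,1,0,1,0,2,0,1],
[9,10,2,0,2,0,1,0,2,0,1,0,1,0,1,0,1,0,1,0,1,0,1,0,1,0,2,0,1,0,1,0,1,0,1,0,1,0,2,0,2,0,2,0,2,0,1,0,1,0,1,0,1,0,1,0,2,0,1,0],
[3,5,6,7,9,10,1,0,1,0,2,0,1,0,2,0,2,0,1,0,1,0,1,0,1,0,1,0,1,0,1,0,2,0,1,0,1,0,2,0,1,0,2,0,1,0,1,0,2,0,2,0,1,0,2],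
[3,10,12,1,0,2,0,1,0,2,0,2,0,2,0,1,0,2,0,2,0,2,0,2,0,1,0,1,0,2,0,1,0,1,0,1,0,2,0,2,0,2,0,1,0,2,0,2,0,2,0,1,0],
[4,5,10,11,13,0,1,0,1,0,2,0,2,0,1,0,1,0,1,0,1,0,2,0,1,0,2,0,2,0,2,0,2,0,2,0,2,0,1,0,1,0,1,0,1,0,2,0,2,0,2,0,1],
[3,4,5,6,7,8,9,10,1,0,2,0,1,0,2,0,1,0,2,0,1,0,2,0,1,0,1,0,1,0,2,0,1,0,1,0,1,0,2,0,1,0,2,0,2,0,2,0,2,0,2,0,2,0,1,0,1,0,1,0],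
[3,5,7,8,9,11,13,1,0,1,0,1,0,2,0,1,0,2,0,1,0,1,0,1,0,2,0,2,0,1,0,2,0,1,0,2,0,1,0,1,0,2,0,2,0,1,0,1,0,1,0,2,0,1,0,2,0,2,0,2,0,1],
[4,5,6,7,8,10,1,0,2,0,2,0,2,0,2,0,2,0,2,0,1,0,2,0,2,0,2,0,1,0,1,0,2,0,1,0,1,0,1,0,1,0,1,0,1,0,1,0,2,0,1,0,2,0,1,0,2,0,1,0],
[4,5,7,9,1,0,2,0,2,0,2,0,2,0,2,0,1,0,2,0,1,0,2,0,2,0,2,0,1,0,2,0,1,0,2,0,2,0,1,0,1,0,1,0,1,0,2,0,2,0,2,0,2,0,1,0,1],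
[6,9,10,11,0,1,0,2,0,2,0,1,0,2,0,2,0,2,0,2,0,1,0,2,0,1,0,2,0,1,0,1,0,1,0,1,0,1,0,2,0,2,0,2,0,1,0,2,0,2,0,1],
[5,11,1,0,1,0,2,0,1,0,1,0,2,0,1,0,2,0,1,0,2,0,2,0,2,0,1,0,1,0,1,0,2,0,1,0,2,0,1,0,2,0,2,0,1,0,2,0],
[5,7,8,12,13,0,2,0,1,0,2,0,1,0,2,0,2,0,2,0,1,0,2,0,2,0,2,0,1,0,1,0,1,0,2,0,2,0,1,0,1,0,1,0,1,0,1,0,1,0,1,0,1,0,2,0,2],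
[3,4,5,6,8,10,2,0,1,0,2,0,1,0,2,0,2,0,2,0,2,0,2,0,2,0,1,0,2,0,2,0,2,0,1,0,2,0,1,0,2,0,2,0,2,0,2,0,1,0,1,0,2,0,2,0,2,0,1,0,1,0],
[1,0,2,0,1,0,2,0,1,0,1,0,2,0,1,0,2],
[1,0,2,0,2,0,2,0,2,0,2,0,1,0,2,0,2,0],
[0,1,0,1,0,2,0,1,0,1,0,1,0,1,0,2,0,1,0,2,0,1,0,1,0,2,0,1,0,1,0,1],
[1,0,1,0,1,0,1,0,2,0,1,0,1,0,2,0,2,0,2,0,2],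
[6,8,11,13,1,0,1,0,1,0,1,0,2,0,1,0,1,0,2,0,2,0,2,0,2]]
def hlTab : List ℕ := [42,43,44,45,46,47,48,49,50,51,52,53,54,55,56]
def phiTab : List ℕ := [0,0,0,0,0,0,0,0,0,0,0,0,0,0,0,0,0,0,0,0,0,0,0,0,0,0,0,0,0,0,0,0,0,0,0,0,0,0,0,0,0,0,42,43,44,45,46,47,57,58,59,60,61,62,63,64,65,0,0,0,0,0,0,0,0,0,0,0,0,0,0,0,0,0,0,0,0,0,0,0,0,0,0,0,0,0,0,0,0]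
def sgTab : List (List ℕ) := [[0,1,3],[14,15,16,17,18,19,20,21,22,23,24,25],[26,27,28],[29,30,31],[32,33,34],[35,36,37,38,39],[40,41]]
def numEdges : ℕ := 134
def srcTab : List ℕ := [0,1,1,1,1,1,1,1,1,1,1,1,1,2,2,2,2,2,2,2,2,2,2,2,2,2,1,3,2,3,2,3,3,3,3,3,3,3,3,3,2,3,3,3,3,3,3,3,3,3,3,3,3,3,3,3,3,3,1,4,2,4,4,4,4,2,4,4,2,5,5,3,5,3,2,5,5,3,2,5,5,3,5,2,4,5,5,5,5,5,5,5,5,5,5,5,5,5,5,5,5,5,5,5,5,5,5,5,2,6,6,3,6,3,6,3,5,6,5,6,5,6,6,6,6,6,6,6,6,6,6,6,6,6]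
def dstTab : List ℕ := [1,0,1,1,1,1,1,1,1,1,1,1,2,1,2,2,2,2,2,2,2,2,2,2,2,2,3,1,3,2,3,2,3,3,3,3,3,3,3,3,3,2,3,3,3,3,3,3,3,3,3,3,3,3,3,3,3,3,4,1,4,2,4,4,2,4,4,4,5,2,3,5,3,5,5,2,3,5,5,2,3,5,2,5,5,4,5,5,5,5,5,5,5,5,5,5,5,5,5,5,5,5,5,5,5,5,5,5,6,2,3,6,3,6,3,6,6,5,6,5,6,5,6,6,6,6,6,6,6,6,6,6,6,6]
def rootTab : List ℕ := [0,0,6783,6783,10709,10709,5020,12896,5471,14776,13705,13735,10397,0,6783,6783,10709,10709,10540,6843,5471,13305,11317,11318,11285,11285,14300,0,13556,3849,14795,14794,12563,12734,5020,6830,793,6868,12556,3549,8400,6752,3319,9373,3324,3330,3307,3971,6743,5901,6814,6814,795,3855,6815,6815,10658,9709,13715,0,146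09,10625,713,8247,13681,11315,796,8365,10397,0,1271,12892,6791,6154,4984,11127,7041,10117,1340,798,839,10519,810,11100,12843,796,6783,6783,15047,4676,10740,13139,6752,10715,795,795,8400,13698,4563,6105,7858,7828,791,807,797,797,7831,11102,7023,0,11283,1959,5308,12843,15028,8895,10709,10709,13688,13704,1082,9499,12291,10556,11987,15061,3991,3991,13944,5018,9111,12889,9727,9727]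
def nwTab : List (List ℕ) := [
[],
[],
[1,0,2,0,1,0,2,0,1,0,1,0,2,0,1,0,2],
[2,0,2,0,1,0,2,0,1,0,2,0,1,0,2,0,2,0,1,0,2,0,1,0,1,0,2,0,1,0,2],
[1,0,1,0,1,0,1,0,2,0,1,0,1,0,2,0,2,0,2,0,2],
[6,8,11,13,2,0,2,0,1,0,1,0,1,0,2,0,1,0,1,0,2,0,2,0,2,0,2],
[4,6,9,10,13,2,0,1,0,2,0,2,0,1,0,1,0,2,0,2,0,2,0,1,0,1,0,2,0,2,0,1,0,1,0,1,0,1,0,1,0,1,0,1,0,1,0,2,0,1,0,1,0,1,0,1,0,1,0,1],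
[3,7,10,11,12,1,0,2,0,2,0,1,0,2,0,2,0,2,0,1,0,2,0,2,0,1,0,2,0,1,0,1,0,2,0,1,0,2,0,2,0,2,0,1,0,1,0,2,0,1,0,1,0,1,0,1,0,2,0],
[3,4,5,8,9,10,11,13,1,0,2,0,2,0,1,0,2,0,1,0,1,0,1,0,1,0,2,0,2,0,2,0,2,0,2,0,1,0,2,0,1,0,2,0,2,0,2,0,2,0,2,0,2,0,1,0,2,0],
[3,9,2,0,2,0,1,0,1,0,1,0,2,0,2,0,1,0,2,0,2,0,2,0,1,0,1,0,1,0,2,0,2,0,2,0,1,0,1,0,2,0,2,0,1,0,1,0,1,0,1,0,2,0,2,0,1],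
[3],
[3,4,6,11,1,0,2,0,2,0,1,0,1,0,1,0,2,0,1,0,2,0,2,0,1,0,1,0,2,0,2,0,1,0,1,0,1,0,1,0,1,0,2,0,1,0,1,0,1,0,1,0,2,0,2,0,2,0,2,0],
[1],
[],
[1,0,2,0,1,0,2,0,1,0,1,0,2,0,1,0,2],
[5,6,7,9,10,11,13,1,0,1,0,1,0,2,0,2,0,1,0,1,0,2,0,2,0,2,0,1,0,1,0,1,0,1,0,1,0,2,0,1,0,1,0,2,0,2,0,2,0,2,0,2,0,1,0,2,0,1],
[1,0,1,0,1,0,1,0,2,0,1,0,1,0,2,0,2,0,2,0,2],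
[3,5,2,0,1,0,1,0,1,0,1,0,1,0,1,0,1,0,2,0,1,0,1,0,2,0,1,0,2,0,1,0,1,0,1,0,1,0,1,0,2,0,2,0,1,0,2,0,1,0,1,0],
[3,5,6,10,2,0,2,0,1,0,2,0,2,0,1,0,1,0,2,0,2,0,2,0,1,0,1,0,1,0,1,0,2,0,2,0,2,0,1,0,2,0,2,0,2,0,1,0,2,0,1],
[3,7,8,9,11,12,13,2,0,2,0,1,0,1,0,2,0,1,0,2,0,1,0,1,0,1,0,2,0,1,0,1,0,1,0,2,0,1,0,1,0,2,0,1,0,1,0,1,0,2,0,2,0,2,0,2],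
[3,10,12,0,1,0,1,0,2,0,1,0,2,0,1,0,1,0,1,0,2,0,1,0,1,0,1,0,1,0,1,0,1,0,1,0,2,0,2,0,2,0,1,0,1,0,2,0,1,0,1,0],
[3,4,5,8,9,12,2,0,2,0,1,0,2,0,2,0,2,0,2,0,1,0,1,0,1,0,2,0,2,0,2,0,2,0,1,0,2,0,2,0,2,0,2,0,2,0,2,0,2,0,1,0,1,0,2,0,2,0,1,0,1],
[3,4,6,7,9,10,13,0,2,0,1,0,2,0,1,0,2,0,1,0,1,0,1,0,1,0,1,0,2,0,1,0,1,0,2,0,2,0,2,0,2],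
[8,10,11,2,0,1,0,2,0,2,0,2,0,2,0,2,0,2,0,1,0,1,0,1,0,1,0,1,0,2,0,2,0,2,0,2,0,2,0,2,0,1,0,1,0,1,0,1,0,2,0,1,0,1,0,1],
[4,5,6,7,11,1,0,2,0,1,0,1,0,2,0,2,0,2,0,2,0,2,0,2,0,2,0,2,0,1,0,2,0,1,0,1,0,1,0,2,0,2,0,2,0,1,0,1,0,2,0,2,0,1,0,2],
[5,8,9,11,13,1,0,1,0,1,0,2,0,1,0,2,0,1,0,1,0,1,0,1,0,2,0,2,0,2,0,2,0,1,0,2,0,2,0,1,0,2,0,1,0,2,0,2,0,2,0,1,0,1,0,2,0],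
[1,0,1],
[],
[4,5,7,8,11,12,13,0,2,0,1,0,2,0,2,0,2,0,1,0,2,0,2,0,2,0,2,0,2,0,2,0,2,0,2,0,1,0,1,0,1,0,1,0,1,0,2,0,2,0,1,0,2,0,2,0,1],
[4,6,8,10,11,12,0,2,0,2,0,1,0,2,0,2,0,2,0,1,0,1,0,1,0,1,0,2,0,2,0,1,0,1,0,1,0,1,0,2,0,1,0,2,0,1,0,1,0,1,0,2,0,2,0,1,0,1,0,2],
[3,5,9,10,12,13,2,0,2,0,2,0,1,0,2,0,2,0,1,0,1,0,1,0,2,0,2,0,1,0,2,0,2,0,1,0,2,0,1,0,1,0,2,0,1,0,1,0,1,0,1,0,2],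
[3,4,5,6,7,9,12,13,0,1,0,2,0,1,0,2,0,1,0,1,0,1,0,1,0,1,0,2,0,2,0,1,0,1,0,2,0,1,0,1,0,1,0,2,0,2,0,1,0,2,0,1,0,1,0,2,0,2,0,2],
[3,9,10,11,12,13,1,0,1,0,2,0,1,0,1,0,2,0,1,0,2,0,1,0,1,0,2,0,2,0,1,0,2,0,1,0,2,0,2,0,2,0,1,0,1,0,2,0,2,0,2,0,2,0,2,0],
[3,5,9,11,0,2,0,1,0,1,0,1,0,1,0,1,0,2,0,1,0,1,0,1,0,2,0,2,0,1,0,2,0,2,0,2,0,2,0,1,0,1,0,1,0,1,0,2,0,1,0,2,0,1,0,1,0,2,0,1,0,1],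
[5,6,7,8,12,1,0,2,0,2,0,2,0,2,0,1,0,1,0,2,0,1,0,2,0,1,0,1,0,2,0,2,0,2,0,2,0,2,0,1,0,2,0,2,0,2,0,1,0,2,0,1,0,2,0,1,0,1],
[8,10,11,13,2,0,2,0,2,0,1,0,2,0,2,0,2,0,1,0,2,0,2,0,1,0,1,0,1,0,1,0,2,0,1,0,1,0,1,0,1,0,2,0,1,0,1,0,2,0,1,0,1,0,1,0,1,0,2,0],
[4,5,6,7,8,9,12,13,2,0,2,0,2,0,2,0,2,0,2,0,1,0,2,0,1,0,1,0,2,0,2,0,1,0,1,0,1,0,2,0,2,0,1,0,2,0,1,0,2,0,1,0,2,0,2],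
[3,5,7,8,9,10,11,13,0,2,0,1,0,2,0,1,0,1,0,2,0,2,0,2,0,1,0,2,0,2,0,2,0,2,0,1,0,2,0,1,0,2,0,2,0,2,0,2,0,1,0,1,0,1,0,1,0,2,0,2,0,1],
[4,5,6,10,13,2,0,1,0,2,0,1,0,1,0,2,0,2,0,2,0,1,0,1,0,1,0,2,0,2,0,2,0,2,0,2,0,2,0,1,0,2,0,2,0,1,0,2,0,1,0,1,0,1,0,2,0],
[3,4,6,8,11,1,0,1,0,1,0,1,0,2,0,2,0,1,0,1,0,1,0,2,0,1,0,1,0,2,0,1,0,2,0,1,0,2,0,2,0,2,0,2,0,2,0,2,0,1,0,1,0,2,0,2],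
[3,4,5,7,8,9,11,12,2,0,1,0,2,0,1,0,2,0,2,0,2,0,2,0,2,0,1,0,2,0,1,0,2,0,1,0,1,0,2,0,1,0,2,0,1,0,1,0,2,0,1,0,1,0,1,0],
[4,5,6,8,10,12,1,0,2,0,1,0,1,0,2,0,1,0,2,0,1,0,1,0,1,0,2,0,1,0,1,0,1,0,2,0,1,0,1,0,1,0,1,0,2,0,2,0,1,0,2],
[3,6,7,8,11,0,1,0,2,0,1,0,2,0,1,0,2,0,1,0,1,0,1,0,1,0,1,0,1,0,2,0,1,0,1,0,1,0,1,0,1,0,1,0,1,0,2,0,2,0,2,0,2,0,2,0,1],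
[4,5,7,9,10,11,12,13,1,0,2,0,2,0,1,0,1,0,1,0,2,0,1,0,1,0,1,0,1,0,1,0,1,0,2,0,1,0,1,0,1,0,1,0,2,0,1,0,1,0,1,0,1,0,1,0,2,0,1,0,1],
[4,5,7,11,13,0,2,0,2,0,1,0,2,0,2,0,2,0,2,0,2,0,2,0,1,0,2,0,2,0,2,0,2,0,1,0,1,0,2,0,1,0,1,0,1,0,2,0,2,0,1,0,2,0,1,0],
[6,7,10,11,0,1,0,1,0,1,0,1,0,2,0,1,0,1,0,2,0,2,0,2,0,1,0,2,0,1,0,2,0,2,0,2,0,1,0,1,0,2,0,2,0,2,0,1,0,2,0,1],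
[4,5,6,8,9,13,1,0,1,0,1,0,2,0,1,0,1,0,2,0,2,0,1,0,1,0,1,0,2,0,1,0,2,0,1,0,1,0,2,0,2,0,2,0,2,0,1,0,1,0,2,0,1,0,1,0,1,0],
[3,5,7,8,10,1,0,2,0,1,0,1,0,1,0,1,0,2,0,2,0,1,0,1,0,1,0,1,0,1,0,1,0,2,0,1,0,1,0,2,0,1,0,2,0,1,0,1,0,1,0,2,0,2,0,2,0,1],
[3,4,5,7,9,11,13,2,0,2,0,2,0,1,0,1,0,2,0,1,0,2,0,2,0,2,0,1,0,1,0,1,0,2,0,2,0,2,0,1,0,2,0,1,0,2,0,1,0,2,0,1,0,2,0,2,0,2,0,2,0,2,0],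
[4,6,8,9,10,12,2,0,2,0,1,0,1,0,2,0,2,0,2,0,2,0,1,0,1,0,2,0,2,0,2,0,1,0,2,0,2,0,2,0,1,0,1,0,2,0,2,0,1,0,2,0,1,0,2,0,2,0,1,0],
[3,5,6,8,9,1,0,2,0,1,0,1,0,1,0,2,0,2,0,2,0,2,0,2,0,1,0,2,0,1,0,2,0,1,0,1,0,2,0,2,0,2,0,2,0,2,0,1,0,2],
[4,7,10,11,12,13,0,1,0,2,0,1,0,1,0,1,0,2,0,2,0,1,0,1,0,1,0,2,0,1,0,2,0,1,0,2,0,1,0,1,0,1,0,1,0,2,0,1,0,1,0,1,0,2,0,1,0,2],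
[4,6,7,10,1,0,1,0,1,0,2,0,1,0,2,0,1,0,2,0,2,0,2,0,1,0,2,0,2,0,1,0,1,0,1,0,2,0,1,0,2,0,2,0,1,0,2,0,1,0,1,0,2,0,2],
[3,7,8,9,10,13,0,2,0,1,0,1,0,1,0,1,0,1,0,2,0,1,0,2,0,1,0,2,0,1,0,2,0,2,0,2,0,1,0,2,0,2,0,2,0,1,0,1,0,1,0,1,0,1,0,1,0,2,0,1,0,1],
[3,7,8,12,2,0,2,0,2,0,2,0,2,0,2,0,2,0,1,0,1,0,2,0,2,0,2,0,1,0,1,0,2,0,1,0,2,0,1,0,1,0,2,0,2,0,2,0,1,0,1,0,2],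
[8,10,11,13,0,1,0,2,0,2,0,2,0,2,0,1,0,2,0,1,0,1,0,1,0,1,0,2,0,2,0,2,0,1,0,2,0,2,0,2,0,2,0,1,0,2,0,1,0],
[4,5,6,7,8,9,10,12,13,0,2,0,1,0,2,0,1,0,2,0,2,0,2,0,1,0,2,0,1,0,2,0,1,0,1,0,2,0,1,0,1,0,1,0,2,0,1,0,1,0,1,0,2,0,1,0],
[4,5,6,10,0,1,0,2,0,2,0,1,0,1,0,1,0,1,0,2,0,1,0,1,0,2,0,2,0,2,0,2,0,1,0,1,0,2,0,2,0,1,0,1,0,1,0,1,0,2,0,1,0,1,0,2,0],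
[6,1,0,2,0,1],
[],
[4,6,8,10,11,12,13,0,2,0,1,0,2,0,1,0,2,0,2,0,1,0,1,0,1,0,2,0,1,0,1,0,2,0,2,0,2,0,2,0,2,0,1,0],
[3,4,5,8,10,1,0,2,0,1,0,1,0,1,0,2,0,1,0,2,0,2,0,2,0,2,0,2,0,2,0,2,0,1,0,1,0,1,0,1,0,1,0,2,0,1,0,2,0,2,0,1,0,1,0,1],
[7,10,12,2,0,2,0,2,0,2,0,1,0,2,0,1,0,2,0,2,0,1,0,1,0,1,0,1,0,2,0,2,0,2,0,2,0,2,0,1,0,2,0,2,0,2,0,2,0,1,0,1,0,1],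
[3,7,9,11,0,1,0,2,0,2,0,2,0,2,0,2,0,2,0,1,0,1,0,2,0,2,0,1,0,2,0,2,0,2,0,1,0,1,0,2,0,1,0,2,0,2,0,2,0,1,0,1,0,2],
[3,6,9,11,12,13,1,0,1,0,1,0,1,0,1,0,2,0,2,0,1,0,1,0,1,0,1,0,2,0,1,0,2,0,2,0,2,0,2,0,1,0,1,0,2,0,1,0,1,0,2],
[3,4,6,7,8,9,11,0,1,0,2,0,1,0,1,0,1,0,2,0,1,0,2,0,2,0,2,0,1,0,2,0,1,0,1,0,2,0,1,0,2,0,1,0,2,0,2,0,2,0,1,0,1,0,1,0],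
[5,7,8,10,11,13,1,0,1,0,2,0,1,0,2,0,1,0,2,0,1,0,2,0,2,0,2,0,2,0,2,0,1,0,1,0,1,0,2,0,1,0,2,0,2,0,2,0,1,0,2,0,2,0,1,0,2],
[4,6,8,10,11,12,13,0,2,0,1,0,2,0,1,0,2,0,2,0,2,0,2,0,1,0,1,0,1,0,1,0,2,0,2,0,1,0,1,0,2,0,1,0,2,0,2,0,2,0,1,0,1,0,1],
[1],
[],
[5,8,9,10,11,0,1,0,2,0,1,0,2,0,2,0,2,0,2,0,2,0,2,0,1,0,1,0,2,0,2,0,1,0,1,0,1,0,1,0,2,0,2,0,2,0,1,0,2,0,2,0,1,0,1,0,2,0],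
[3,6,7,11,12,0,1,0,1,0,1,0,1,0,2,0,2,0,1,0,2,0,2,0,2,0,2,0,1,0,1,0,1,0,1,0,1,0,2,0,1,0,1,0,1,0,2,0,2,0,2,0,2,0,1,0,1,0,1],
[3,5,6,7,8,1,0,1,0,2,0,2,0,1,0,1,0,1,0,1,0,1,0,2,0,2,0,1,0,2,0,1,0,1,0,1,0,2,0,1,0,1,0,2,0,2,0,1,0,2,0,2,0,1,0,2,0,1,0,2],
[4,6,7,8,9,10,11,12,13,0,1,0,1,0,2,0,1,0,1,0,1,0,2,0,1,0,1,0,1,0,2,0,1,0,1,0,1,0,1,0,1,0,1,0,1,0,1,0,1,0,2,0,1,0,2,0,2,0,2,0,2,0,1],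
[3,7,2,0,2,0,2,0,1,0,2,0,1,0,1,0,2,0,2,0,1,0,1,0,2,0,1,0,2,0,2,0,2,0,2,0,1,0,1,0,1,0,2,0,2,0,2,0,2,0,2,0,1],
[3,5,6,12,0,1,0,2,0,2,0,2,0,2,0,1,0,2,0,2,0,2,0,1,0,2,0,2,0,1,0,1,0,1,0,1,0,2,0,2,0,2,0,1,0,1,0,2,0,2,0,2,0],
[3,4,1,0,1,0,1,0,1,0,1,0,2,0,1,0,1,0,2,0,2,0,1,0,2,0,2,0,2,0,2,0,1,0,1,0,1,0,2,0,2,0,2,0,2,0,1,0,1,0,2,0,1,0,2],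
[5,6,7,9,12,2,0,2,0,1,0,1,0,2,0,1,0,2,0,1,0,1,0,1,0,2,0,1,0,2,0,1,0,2,0,1,0,2,0,2,0,2,0,1,0,2,0,1,0,2,0,2,0,2,0,1,0,2,0],
[3,9,13,0,2,0,1,0,2,0,2,0,2,0,2,0,2,0,2,0,2,0,2,0,1,0,1,0,2,0,1,0,1,0,1,0,1,0,2,0,1,0,2,0,2,0,1,0,1,0,2,0],
[3,5,6,7,8,2,0,2,0,1,0,2,0,1,0,1,0,1,0,2,0,1,0,1,0,1,0,1,0,1,0,2,0,1,0,2,0,1,0,1,0,2,0,2,0,2,0,1,0,1,0,1,0,2,0,1],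
[3,4,5,7,0,2,0,2,0,2,0,1,0,1,0,1,0,1,0,2,0,1,0,1,0,2,0,2,0,1,0,1,0,1,0,1,0,1,0,1,0,2,0,1,0,1,0,2,0,1,0,1,0,1,0,1,0,2,0],
[4,5,6,8,11,13,0,1,0,2,0,2,0,1,0,1,0,1,0,2,0,2,0,2,0,2,0,2,0,1,0,2,0,1,0,1,0,1,0,1,0,1,0,2,0,2,0,2,0,2,0,1,0,2,0,1,0,1,0,1,0,1],
[3,7,13,0,2,0,1,0,2,0,2,0,2,0,1,0,1,0,1,0,1,0,1,0,1,0,1,0,1,0,2,0,1,0,2,0,2,0,2,0,2,0,1,0,2,0,2,0,2],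
[5,7,2,0,1,0,1,0,1,0,1,0,1,0,2,0,2,0,2,0,1,0,2,0,1,0,1,0,1,0,1,0,1,0,2,0,1,0,2,0,1,0,1,0,1,0,1,0,2,0,2,0,2,0,2,0,1],
[1,0,2,0,2,0,2,0,2,0,2,0,1,0,2,0,2,0],
[3,5,7,8,9,10,11,1,0,1,0,2,0,2,0,1,0,2,0,1,0,1,0,1,0,2,0,1,0,2,0,2,0,2,0,1,0,2,0,2,0,2,0,1,0,1,0,1,0,1,0,1,0,2,0,1,0,1,0,1,0,2],
[1,0,2,0,1,0,2,0,1,0,1,0,2,0,1,0,2],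
[4,5,6,8,9,2,0,1,0,2,0,2,0,2,0,1,0,2,0,2,0,1,0,2,0,1,0,1,0,1,0,1,0,1,0,2,0,1,0,2,0,1,0,1],
[4,5,8,9,11,12,13,0,2,0,1,0,1,0,2,0,1,0,2,0,1,0,1,0,2,0,1,0,1,0,1,0,2,0,1,0,2,0,1,0,1,0,1,0,2,0,2,0,2,0,2,0,2,0,2],
[3,7,8,9,11,12,0,2,0,2,0,2,0,1,0,1,0,1,0,1,0,1,0,2,0,1,0,1,0,1,0,2,0,2,0,1,0,1,0,1,0,1,0,1,0,2,0],
[3,4,7,8,9,12,2,0,2,0,2,0,2,0,2,0,1,0,1,0,1,0,2,0,1,0,2,0,2,0,2,0,2,0,2,0,1,0,1,0,1,0,2,0,1,0,1,0,1,0,2,0,1,0,2],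
[3,5,6,7,10,11,12,13,1,0,2,0,1,0,1,0,2,0,1,0,1,0,2,0,2,0,1,0,1,0,2,0,1,0,1,0,1,0,1,0,1,0,1,0,1,0,2,0,1,0,2,0,2,0,1,0,1,0,2,0,2,0,1,0,1],
[4,5,6,8,11,0,2,0,2,0,2,0,1,0,2,0,2,0,1,0,2,0,1,0,2,0,2,0,1,0,2,0,1,0,2,0,1,0,1,0,2,0,1,0,2,0,1,0,1,0,2,0,1,0,1,0,1,0],
[3,6,7,9,12,1,0,2,0,2,0,1,0,2,0,1,0,1,0,1,0,2,0,2,0,1,0,2,0,2,0,2,0,1,0,1,0,2,0,1,0,2,0,1,0,2,0,2,0,2,0,2,0,2,0,1,0,2,0,1,0],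
[3,4,6,9,10,11,2,0,2,0,1,0,2,0,1,0,1,0,1,0,2,0,2,0,1,0,1,0,1,0,2,0,1,0,2,0,1,0,1,0,2,0,2,0,2,0,1,0,2,0,2,0,2,0,1,0,1,0,1],
[3,4,5,7,9,10,12,1,0,1,0,1,0,2,0,1,0,2,0,2,0,2,0,2,0,2,0,2,0,2,0,1,0,2,0,1,0,2,0,1,0,2,0,2,0,2,0,2,0,1,0,1,0,1,0,1,0,2,0],
[4,9,10,11,12,1,0,1,0,1,0,2,0,2,0,1,0,2,0,1,0,1,0,1,0,1,0,2,0,1,0,2,0,2,0,1,0,2,0,1,0,2,0,2,0,1,0,2,0,1],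
[3,4,9,10,12,1,0,1,0,2,0,1,0,1,0,1,0,1,0,1,0,2,0,2,0,2,0,2,0,2,0,2,0,2,0,2,0,1,0,1,0,2,0,1,0,2,0,1,0,1,0,2,0,2],
[3,4,6,8,9,10,11,12,13,0,1,0,1,0,2,0,2,0,1,0,2,0,1,0,1,0,1,0,1,0,1,0,2,0,2,0,2,0,1,0,2,0,2,0,2,0,1,0,2,0,1,0,1,0,1,0,2,0],
[3,4,5,8,9,11,13,2,0,2,0,2,0,1,0,1,0,2,0,2,0,2,0,2,0,1,0,2,0,1,0,1,0,2,0,1,0,1,0,1,0,1,0,2,0,2,0,1,0,2,0,1,0,2,0,1,0,2],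
[3,4,7,8,9,12,13,2,0,2,0,1,0,1,0,2,0,2,0,2,0,1,0,2,0,1,0,2,0,2,0,2,0,1,0,2,0,2,0,2,0,2,0,2,0,2,0,2,0,1,0,1,0,1,0,1,0,2,0,1],
[4,6,8,2,0,2,0,2,0,2,0,1,0,2,0,1,0,2,0,2,0,2,0,1,0,1,0,1,0,2,0,2,0,1,0,2,0,1,0,1,0,2,0,2,0,1,0,2,0,2,0,1,0,1],
[3,6,7,9,12,13,1,0,1,0,2,0,2,0,1,0,2,0,2,0,1,0,2,0,1,0,2,0,1,0,1,0,1,0,1,0,2,0,1,0,1,0,1,0,1,0,2,0,2,0],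
[3,5,6,7,8,1,0,2,0,1,0,2,0,1,0,1,0,1,0,2,0,1,0,2,0,2,0,2,0,1,0,2,0,1,0,1,0,1,0,1,0,1,0,1,0,1,0,1,0,1,0,2,0,2,0,1,0,2,0,1,0,2],
[5,6,8,9,10,12,2,0,1,0,2,0,1,0,2,0,1,0,1,0,2,0,2,0,2,0,2,0,1,0,1,0,1,0,2,0,1,0,1,0,2,0,2,0,2,0,2,0,1,0,2,0,2,0,2,0,1],
[8,12,0,2,0,1,0,1,0,1,0,2,0,1,0,2,0,1,0,2,0,2,0,2,0,2,0,2,0,1,0,1,0,1,0,1,0,2,0,1,0,2,0,1,0,1,0,2,0,1,0,2],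
[3,4,10,11,13,0,1,0,2,0,1,0,1,0,2,0,1,0,1,0,1,0,2,0,2,0,2,0,2,0,1,0,2,0,1,0,1,0,1,0,2,0,2,0,2,0,2,0,1,0,2,0,2,0,2,0,1,0,2,0,1],
[3,4,5,7,10,12,1,0,2,0,1,0,2,0,2,0,2,0,1,0,1,0,1,0,1,0,2,0,2,0,2,0,1,0,1,0,1,0,1,0,2,0,2,0,2,0,2,0,1,0,2,0,1,0,2,0,2,0,1,0,1],
[0,1],
[],
[3,5,7,11,13,1,0,1,0,2,0,1,0,2,0,1,0,1,0,2,0,1,0,2,0,1,0,1,0,1,0,2,0,1,0,1,0,1,0,2,0,2,0,2,0,1,0,2,0,2,0,1,0],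
[3,4,5,6,12,13,1,0,2,0,1,0,2,0,1,0,1,0,1,0,1,0,1,0,1,0,1,0,2,0,1,0,2,0,1,0,2,0,1,0,2,0,1,0,1,0,2,0,2,0,2,0,1,0,1],
[3,5,9,10,12,13,2,0,2,0,1,0,1,0,2,0,2,0,2,0,2,0,2,0,1,0,2,0,1,0,1,0,2,0,2,0,2,0,2,0,2,0,2,0,2,0,2,0,1,0,1,0,1],
[3,6,8,9,11,13,0,2,0,2,0,2,0,1,0,1,0,1,0,2,0,2,0,2,0,2,0,2,0,1,0,2,0,1,0,2,0,1,0,1,0,1,0,2,0,2,0,2,0,2,0,2,0,1,0],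
[3,5,6,7,8,9,11,1,0,2,0,1,0,1,0,1,0,2,0,1,0,2,0,2,0,2,0,2,0,1,0,1,0,2,0,2,0,1,0,2,0,1,0,1,0,1,0,1,0,2,0,2,0,1,0,1,0,1,0,1,0,1,0],
[5,7,8,9,11,12,13,1,0,2,0,2,0,2,0,2,0,2,0,2,0,2,0,2,0,2,0,1,0,1,0,2,0,2,0,2,0,1,0,1,0,1,0,1,0,2,0,2,0,2,0,1,0,1,0,2,0,2,0,1,0,1],
[1,0,1,0,1,0,1,0,2,0,1,0,1,0,2,0,2,0,2,0,2],
[6,8,11,13,2,0,2,0,1,0,1,0,1,0,2,0,1,0,1,0,2,0,2,0,2,0,2],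
[3,4,5,6,10,11,1,0,1,0,2,0,2,0,1,0,1,0,1,0,2,0,1,0,1,0,1,0,2,0,2,0,2,0,2,0,1,0,1,0,2,0,2,0,1,0,2,0,2,0,1,0,2,0,1,0,2,0,2,0,2],
[3,5,6,8,11,13,0,2,0,2,0,1,0,1,0,1,0,1,0,2,0,2,0,1,0,2,0,1,0,2,0,1,0,2,0,2,0,2,0,2,0,1,0,1,0,1,0,2,0,2,0,2,0,2,0,2],
[4,5,6,8,9,10,11,12,13,2,0,1,0,2,0,1,0,2,0,1,0,2,0,2,0,2,0,2,0,2,0,1,0,2,0,1,0,2,0,2,0,2,0,1,0,2,0,1,0,2,0,2,0,1],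
[3,4,6,7,8,9,11,13,0,1,0,2,0,2,0,2,0,1,0,1,0,2,0,1,0,2,0,1,0,2,0,2,0,1,0,2,0,1,0,1,0,2,0,1,0,1,0,1,0,1,0,2,0,2],
[5,6,7,8,12,13,0,1,0,1,0,2,0,1,0,2,0,2,0,2,0,1,0,1,0,1,0,1,0,2,0,1,0,1,0,1,0,2,0,1,0,2,0,2,0,2,0,2,0,2,0,1,0,2,0,1,0,1,0],
[4,5,7,8,11,12,13,1,0,2,0,2,0,1,0,1,0,1,0,1,0,1,0,2,0,2,0,2,0,1,0,2,0,1,0,1,0,2,0,2,0,1,0,1,0,1,0,2,0,2,0,1,0,2,0,2,0],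
[3,4,5,6,8,11,1,0,2,0,1,0,1,0,1,0,1,0,2,0,2,0,2,0,1,0,2,0,1,0,1,0,1,0,1,0,2,0,2,0,1,0,2,0,1,0,1,0,1,0,1,0,2,0,1,0,2,0,1,0,1,0,2],
[3,4,7,8,10,13,2,0,2,0,2,0,2,0,2,0,1,0,2,0,1,0,2,0,1,0,1,0,2,0,2,0,1,0,2,0,2,0,2,0,1,0,1,0,2,0,2,0,2,0,1,0,1,0,2,0,1],
[3,10,11,12,1,0,2,0,2,0,2,0,1,0,2,0,2,0,2,0,1,0,1,0,1,0,2,0,2,0,1,0,1,0,1,0,2,0,2,0,1,0,2,0,1,0,2,0,2,0,1,0,1,0,1,0,1,0,1,0,2],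
[3,6,7,8,11,0,1,0,2,0,2,0,1,0,2,0,2,0,2,0,2,0,2,0,1,0,2,0,1,0,2,0,1,0,2,0,2,0,2,0,2,0,1,0,1,0,2,0,2,0,1,0,1,0,1,0,2,0,1],
[3,6,7,9,10,11,12,2,0,1,0,2,0,2,0,1,0,2,0,2,0,2,0,2,0,1,0,2,0,2,0,1,0,2,0,1,0,1,0,2,0,1,0,1,0,1,0,1,0,1,0,1],
[3,4,6,7,10,11,1,0,2,0,1,0,1,0,2,0,1,0,1,0,2,0,2,0,2,0,1,0,1,0,1,0,1,0,2,0,1,0,1,0,1,0,1,0,1,0,2,0,1,0,1,0,1,0],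
[3,4,6,8,12,13,1,0,2,0,1,0,1,0,2,0,2,0,2,0,2,0,2,0,1,0,1,0,1,0,1,0,1,0,2,0,1,0,1,0,1,0,1,0,2,0,2,0,1,0,1,0,1,0,2,0,2,0,2,0],
[4,6,7,9,10,11,13,2,0,2,0,2,0,2,0,2,0,2,0,2,0,1,0,2,0,1,0,2,0,2,0,2,0,1,0,2,0,2,0,1,0,1,0,1,0,2,0,2,0,1,0,2,0,1,0,1],
[3,5,6,10,0,2,0,1,0,2,0,1,0,2,0,2,0,2,0,2,0,2,0,1,0,2,0,1,0,2,0,1,0,1,0,1,0,1,0,2,0,1,0,1,0,1,0,1,0,1,0,1,0,2,0,1,0,2],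
[7,9,10,11,12,13,1,0,2,0,2,0,1,0,1,0,1,0,1,0,1,0,2,0,1,0,1,0,2,0,2,0,2,0,1,0,1,0,2,0,2,0,2,0,1,0,2,0,2,0,2,0,1,0,2,0,1,0,1,0]]
def mwTab : List (List ℕ) := [
[],
[],
[2,0,2,0,1,0,2,0,1,0,2,0,1,0,2,0,2,0,1,0,2,0,1,0,1,0,2,0,1,0,2],
[1,0,2,0,1,0,2,0,1,0,1,0,2,0,1,0,2],
[6,8,11,13,2,0,2,0,1,0,1,0,1,0,2,0,1,0,1,0,2,0,2,0,2,0,2],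
[1,0,1,0,1,0,1,0,2,0,1,0,1,0,2,0,2,0,2,0,2],
[3,7,10,11,12,1,0,2,0,2,0,1,0,2,0,2,0,2,0,1,0,2,0,2,0,1,0,2,0,1,0,1,0,2,0,1,0,2,0,2,0,2,0,1,0,1,0,2,0,1,0,1,0,1,0,1,0,2,0],
[4,6,9,10,13,2,0,1,0,2,0,2,0,1,0,1,0,2,0,2,0,2,0,1,0,1,0,2,0,2,0,1,0,1,0,1,0,1,0,1,0,1,0,1,0,1,0,2,0,1,0,1,0,1,0,1,0,1,0,1],
[3,9,2,0,2,0,1,0,1,0,1,0,2,0,2,0,1,0,2,0,2,0,2,0,1,0,1,0,1,0,2,0,2,0,2,0,1,0,1,0,2,0,2,0,1,0,1,0,1,0,1,0,2,0,2,0,1],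
[3,4,5,8,9,10,11,13,1,0,2,0,2,0,1,0,2,0,1,0,1,0,1,0,1,0,2,0,2,0,2,0,2,0,2,0,1,0,2,0,1,0,2,0,2,0,2,0,2,0,2,0,2,0,1,0,2,0],
[3,4,6,11,1,0,2,0,2,0,1,0,1,0,1,0,2,0,1,0,2,0,2,0,1,0,1,0,2,0,2,0,1,0,1,0,1,0,1,0,1,0,2,0,1,0,1,0,1,0,1,0,2,0,2,0,2,0,2,0],
[3],
[],
[1],
[5,6,7,9,10,11,13,1,0,1,0,1,0,2,0,2,0,1,0,1,0,2,0,2,0,2,0,1,0,1,0,1,0,1,0,1,0,2,0,1,0,1,0,2,0,2,0,2,0,2,0,2,0,1,0,2,0,1],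
[1,0,2,0,1,0,2,0,1,0,1,0,2,0,1,0,2],
[3,5,2,0,1,0,1,0,1,0,1,0,1,0,1,0,1,0,2,0,1,0,1,0,2,0,1,0,2,0,1,0,1,0,1,0,1,0,1,0,2,0,2,0,1,0,2,0,1,0,1,0],
[1,0,1,0,1,0,1,0,2,0,1,0,1,0,2,0,2,0,2,0,2],
[3,7,8,9,11,12,13,2,0,2,0,1,0,1,0,2,0,1,0,2,0,1,0,1,0,1,0,2,0,1,0,1,0,1,0,2,0,1,0,1,0,2,0,1,0,1,0,1,0,2,0,2,0,2,0,2],
[3,5,6,10,2,0,2,0,1,0,2,0,2,0,1,0,1,0,2,0,2,0,2,0,1,0,1,0,1,0,1,0,2,0,2,0,2,0,1,0,2,0,2,0,2,0,1,0,2,0,1],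
[3,4,5,8,9,12,2,0,2,0,1,0,2,0,2,0,2,0,2,0,1,0,1,0,1,0,2,0,2,0,2,0,2,0,1,0,2,0,2,0,2,0,2,0,2,0,2,0,2,0,1,0,1,0,2,0,2,0,1,0,1],
[3,10,12,0,1,0,1,0,2,0,1,0,2,0,1,0,1,0,1,0,2,0,1,0,1,0,1,0,1,0,1,0,1,0,1,0,2,0,2,0,2,0,1,0,1,0,2,0,1,0,1,0],
[8,10,11,2,0,1,0,2,0,2,0,2,0,2,0,2,0,2,0,1,0,1,0,1,0,1,0,1,0,2,0,2,0,2,0,2,0,2,0,2,0,1,0,1,0,1,0,1,0,2,0,1,0,1,0,1],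
[3,4,6,7,9,10,13,0,2,0,1,0,2,0,1,0,2,0,1,0,1,0,1,0,1,0,1,0,2,0,1,0,1,0,2,0,2,0,2,0,2],
[5,8,9,11,13,1,0,1,0,1,0,2,0,1,0,2,0,1,0,1,0,1,0,1,0,2,0,2,0,2,0,2,0,1,0,2,0,2,0,1,0,2,0,1,0,2,0,2,0,2,0,1,0,1,0,2,0],
[4,5,6,7,11,1,0,2,0,1,0,1,0,2,0,2,0,2,0,2,0,2,0,2,0,2,0,2,0,1,0,2,0,1,0,1,0,1,0,2,0,2,0,2,0,1,0,1,0,2,0,2,0,1,0,2],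
[],
[1,0,1],
[4,6,8,10,11,12,0,2,0,2,0,1,0,2,0,2,0,2,0,1,0,1,0,1,0,1,0,2,0,2,0,1,0,1,0,1,0,1,0,2,0,1,0,2,0,1,0,1,0,1,0,2,0,2,0,1,0,1,0,2],
[4,5,7,8,11,12,13,0,2,0,1,0,2,0,2,0,2,0,1,0,2,0,2,0,2,0,2,0,2,0,2,0,2,0,2,0,1,0,1,0,1,0,1,0,1,0,2,0,2,0,1,0,2,0,2,0,1],
[3,4,5,6,7,9,12,13,0,1,0,2,0,1,0,2,0,1,0,1,0,1,0,1,0,1,0,2,0,2,0,1,0,1,0,2,0,1,0,1,0,1,0,2,0,2,0,1,0,2,0,1,0,1,0,2,0,2,0,2],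
[3,5,9,10,12,13,2,0,2,0,2,0,1,0,2,0,2,0,1,0,1,0,1,0,2,0,2,0,1,0,2,0,2,0,1,0,2,0,1,0,1,0,2,0,1,0,1,0,1,0,1,0,2],
[3,5,9,11,0,2,0,1,0,1,0,1,0,1,0,1,0,2,0,1,0,1,0,1,0,2,0,2,0,1,0,2,0,2,0,2,0,2,0,1,0,1,0,1,0,1,0,2,0,1,0,2,0,1,0,1,0,2,0,1,0,1],
[3,9,10,11,12,13,1,0,1,0,2,0,1,0,1,0,2,0,1,0,2,0,1,0,1,0,2,0,2,0,1,0,2,0,1,0,2,0,2,0,2,0,1,0,1,0,2,0,2,0,2,0,2,0,2,0],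
[8,10,11,13,2,0,2,0,2,0,1,0,2,0,2,0,2,0,1,0,2,0,2,0,1,0,1,0,1,0,1,0,2,0,1,0,1,0,1,0,1,0,2,0,1,0,1,0,2,0,1,0,1,0,1,0,1,0,2,0],
[5,6,7,8,12,1,0,2,0,2,0,2,0,2,0,1,0,1,0,2,0,1,0,2,0,1,0,1,0,2,0,2,0,2,0,2,0,2,0,1,0,2,0,2,0,2,0,1,0,2,0,1,0,2,0,1,0,1],
[3,5,7,8,9,10,11,13,0,2,0,1,0,2,0,1,0,1,0,2,0,2,0,2,0,1,0,2,0,2,0,2,0,2,0,1,0,2,0,1,0,2,0,2,0,2,0,2,0,1,0,1,0,1,0,1,0,2,0,2,0,1],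
[4,5,6,7,8,9,12,13,2,0,2,0,2,0,2,0,2,0,2,0,1,0,2,0,1,0,1,0,2,0,2,0,1,0,1,0,1,0,2,0,2,0,1,0,2,0,1,0,2,0,1,0,2,0,2],
[3,4,6,8,11,1,0,1,0,1,0,1,0,2,0,2,0,1,0,1,0,1,0,2,0,1,0,1,0,2,0,1,0,2,0,1,0,2,0,2,0,2,0,2,0,2,0,2,0,1,0,1,0,2,0,2],
[4,5,6,10,13,2,0,1,0,2,0,1,0,1,0,2,0,2,0,2,0,1,0,1,0,1,0,2,0,2,0,2,0,2,0,2,0,2,0,1,0,2,0,2,0,1,0,2,0,1,0,1,0,1,0,2,0],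
[4,5,6,8,10,12,1,0,2,0,1,0,1,0,2,0,1,0,2,0,1,0,1,0,1,0,2,0,1,0,1,0,1,0,2,0,1,0,1,0,1,0,1,0,2,0,2,0,1,0,2],
[3,4,5,7,8,9,11,12,2,0,1,0,2,0,1,0,2,0,2,0,2,0,2,0,2,0,1,0,2,0,1,0,2,0,1,0,1,0,2,0,1,0,2,0,1,0,1,0,2,0,1,0,1,0,1,0],
[4,5,7,9,10,11,12,13,1,0,2,0,2,0,1,0,1,0,1,0,2,0,1,0,1,0,1,0,1,0,1,0,1,0,2,0,1,0,1,0,1,0,1,0,2,0,1,0,1,0,1,0,1,0,1,0,2,0,1,0,1],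
[3,6,7,8,11,0,1,0,2,0,1,0,2,0,1,0,2,0,1,0,1,0,1,0,1,0,1,0,1,0,2,0,1,0,1,0,1,0,1,0,1,0,1,0,1,0,2,0,2,0,2,0,2,0,2,0,1],
[6,7,10,11,0,1,0,1,0,1,0,1,0,2,0,1,0,1,0,2,0,2,0,2,0,1,0,2,0,1,0,2,0,2,0,2,0,1,0,1,0,2,0,2,0,2,0,1,0,2,0,1],
[4,5,7,11,13,0,2,0,2,0,1,0,2,0,2,0,2,0,2,0,2,0,2,0,1,0,2,0,2,0,2,0,2,0,1,0,1,0,2,0,1,0,1,0,1,0,2,0,2,0,1,0,2,0,1,0],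
[3,5,7,8,10,1,0,2,0,1,0,1,0,1,0,1,0,2,0,2,0,1,0,1,0,1,0,1,0,1,0,1,0,2,0,1,0,1,0,2,0,1,0,2,0,1,0,1,0,1,0,2,0,2,0,2,0,1],
[4,5,6,8,9,13,1,0,1,0,1,0,2,0,1,0,1,0,2,0,2,0,1,0,1,0,1,0,2,0,1,0,2,0,1,0,1,0,2,0,2,0,2,0,2,0,1,0,1,0,2,0,1,0,1,0,1,0],
[4,6,8,9,10,12,2,0,2,0,1,0,1,0,2,0,2,0,2,0,2,0,1,0,1,0,2,0,2,0,2,0,1,0,2,0,2,0,2,0,1,0,1,0,2,0,2,0,1,0,2,0,1,0,2,0,2,0,1,0],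
[3,4,5,7,9,11,13,2,0,2,0,2,0,1,0,1,0,2,0,1,0,2,0,2,0,2,0,1,0,1,0,1,0,2,0,2,0,2,0,1,0,2,0,1,0,2,0,1,0,2,0,1,0,2,0,2,0,2,0,2,0,2,0],
[4,7,10,11,12,13,0,1,0,2,0,1,0,1,0,1,0,2,0,2,0,1,0,1,0,1,0,2,0,1,0,2,0,1,0,2,0,1,0,1,0,1,0,1,0,2,0,1,0,1,0,1,0,2,0,1,0,2],
[3,5,6,8,9,1,0,2,0,1,0,1,0,1,0,2,0,2,0,2,0,2,0,2,0,1,0,2,0,1,0,2,0,1,0,1,0,2,0,2,0,2,0,2,0,2,0,1,0,2],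
[3,7,8,9,10,13,0,2,0,1,0,1,0,1,0,1,0,1,0,2,0,1,0,2,0,1,0,2,0,1,0,2,0,2,0,2,0,1,0,2,0,2,0,2,0,1,0,1,0,1,0,1,0,1,0,1,0,2,0,1,0,1],
[4,6,7,10,1,0,1,0,1,0,2,0,1,0,2,0,1,0,2,0,2,0,2,0,1,0,2,0,2,0,1,0,1,0,1,0,2,0,1,0,2,0,2,0,1,0,2,0,1,0,1,0,2,0,2],
[8,10,11,13,0,1,0,2,0,2,0,2,0,2,0,1,0,2,0,1,0,1,0,1,0,1,0,2,0,2,0,2,0,1,0,2,0,2,0,2,0,2,0,1,0,2,0,1,0],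
[3,7,8,12,2,0,2,0,2,0,2,0,2,0,2,0,2,0,1,0,1,0,2,0,2,0,2,0,1,0,1,0,2,0,1,0,2,0,1,0,1,0,2,0,2,0,2,0,1,0,1,0,2],
[4,5,6,10,0,1,0,2,0,2,0,1,0,1,0,1,0,1,0,2,0,1,0,1,0,2,0,2,0,2,0,2,0,1,0,1,0,2,0,2,0,1,0,1,0,1,0,1,0,2,0,1,0,1,0,2,0],
[4,5,6,7,8,9,10,12,13,0,2,0,1,0,2,0,1,0,2,0,2,0,2,0,1,0,2,0,1,0,2,0,1,0,1,0,2,0,1,0,1,0,1,0,2,0,1,0,1,0,1,0,2,0,1,0],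
[],
[6,1,0,2,0,1],
[3,4,5,8,10,1,0,2,0,1,0,1,0,1,0,2,0,1,0,2,0,2,0,2,0,2,0,2,0,2,0,2,0,1,0,1,0,1,0,1,0,1,0,2,0,1,0,2,0,2,0,1,0,1,0,1],
[4,6,8,10,11,12,13,0,2,0,1,0,2,0,1,0,2,0,2,0,1,0,1,0,1,0,2,0,1,0,1,0,2,0,2,0,2,0,2,0,2,0,1,0],
[3,7,9,11,0,1,0,2,0,2,0,2,0,2,0,2,0,2,0,1,0,1,0,2,0,2,0,1,0,2,0,2,0,2,0,1,0,1,0,2,0,1,0,2,0,2,0,2,0,1,0,1,0,2],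
[7,10,12,2,0,2,0,2,0,2,0,1,0,2,0,1,0,2,0,2,0,1,0,1,0,1,0,1,0,2,0,2,0,2,0,2,0,2,0,1,0,2,0,2,0,2,0,2,0,1,0,1,0,1],
[3,4,6,7,8,9,11,0,1,0,2,0,1,0,1,0,1,0,2,0,1,0,2,0,2,0,2,0,1,0,2,0,1,0,1,0,2,0,1,0,2,0,1,0,2,0,2,0,2,0,1,0,1,0,1,0],
[3,6,9,11,12,13,1,0,1,0,1,0,1,0,1,0,2,0,2,0,1,0,1,0,1,0,1,0,2,0,1,0,2,0,2,0,2,0,2,0,1,0,1,0,2,0,1,0,1,0,2],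
[4,6,8,10,11,12,13,0,2,0,1,0,2,0,1,0,2,0,2,0,2,0,2,0,1,0,1,0,1,0,1,0,2,0,2,0,1,0,1,0,2,0,1,0,2,0,2,0,2,0,1,0,1,0,1],
[5,7,8,10,11,13,1,0,1,0,2,0,1,0,2,0,1,0,2,0,1,0,2,0,2,0,2,0,2,0,2,0,1,0,1,0,1,0,2,0,1,0,2,0,2,0,2,0,1,0,2,0,2,0,1,0,2],
[],
[1],
[3,6,7,11,12,0,1,0,1,0,1,0,1,0,2,0,2,0,1,0,2,0,2,0,2,0,2,0,1,0,1,0,1,0,1,0,1,0,2,0,1,0,1,0,1,0,2,0,2,0,2,0,2,0,1,0,1,0,1],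
[5,8,9,10,11,0,1,0,2,0,1,0,2,0,2,0,2,0,2,0,2,0,2,0,1,0,1,0,2,0,2,0,1,0,1,0,1,0,1,0,2,0,2,0,2,0,1,0,2,0,2,0,1,0,1,0,2,0],
[4,6,7,8,9,10,11,12,13,0,1,0,1,0,2,0,1,0,1,0,1,0,2,0,1,0,1,0,1,0,2,0,1,0,1,0,1,0,1,0,1,0,1,0,1,0,1,0,1,0,2,0,1,0,2,0,2,0,2,0,2,0,1],
[3,5,6,7,8,1,0,1,0,2,0,2,0,1,0,1,0,1,0,1,0,1,0,2,0,2,0,1,0,2,0,1,0,1,0,1,0,2,0,1,0,1,0,2,0,2,0,1,0,2,0,2,0,1,0,2,0,1,0,2],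
[3,5,6,12,0,1,0,2,0,2,0,2,0,2,0,1,0,2,0,2,0,2,0,1,0,2,0,2,0,1,0,1,0,1,0,1,0,2,0,2,0,2,0,1,0,1,0,2,0,2,0,2,0],
[3,7,2,0,2,0,2,0,1,0,2,0,1,0,1,0,2,0,2,0,1,0,1,0,2,0,1,0,2,0,2,0,2,0,2,0,1,0,1,0,1,0,2,0,2,0,2,0,2,0,2,0,1],
[5,6,7,9,12,2,0,2,0,1,0,1,0,2,0,1,0,2,0,1,0,1,0,1,0,2,0,1,0,2,0,1,0,2,0,1,0,2,0,2,0,2,0,1,0,2,0,1,0,2,0,2,0,2,0,1,0,2,0],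
[3,4,1,0,1,0,1,0,1,0,1,0,2,0,1,0,1,0,2,0,2,0,1,0,2,0,2,0,2,0,2,0,1,0,1,0,1,0,2,0,2,0,2,0,2,0,1,0,1,0,2,0,1,0,2],
[3,5,6,7,8,2,0,2,0,1,0,2,0,1,0,1,0,1,0,2,0,1,0,1,0,1,0,1,0,1,0,2,0,1,0,2,0,1,0,1,0,2,0,2,0,2,0,1,0,1,0,1,0,2,0,1],
[3,9,13,0,2,0,1,0,2,0,2,0,2,0,2,0,2,0,2,0,2,0,2,0,1,0,1,0,2,0,1,0,1,0,1,0,1,0,2,0,1,0,2,0,2,0,1,0,1,0,2,0],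
[4,5,6,8,11,13,0,1,0,2,0,2,0,1,0,1,0,1,0,2,0,2,0,2,0,2,0,2,0,1,0,2,0,1,0,1,0,1,0,1,0,1,0,2,0,2,0,2,0,2,0,1,0,2,0,1,0,1,0,1,0,1],
[3,4,5,7,0,2,0,2,0,2,0,1,0,1,0,1,0,1,0,2,0,1,0,1,0,2,0,2,0,1,0,1,0,1,0,1,0,1,0,1,0,2,0,1,0,1,0,2,0,1,0,1,0,1,0,1,0,2,0],
[5,7,2,0,1,0,1,0,1,0,1,0,1,0,2,0,2,0,2,0,1,0,2,0,1,0,1,0,1,0,1,0,1,0,2,0,1,0,2,0,1,0,1,0,1,0,1,0,2,0,2,0,2,0,2,0,1],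
[3,7,13,0,2,0,1,0,2,0,2,0,2,0,1,0,1,0,1,0,1,0,1,0,1,0,1,0,1,0,2,0,1,0,2,0,2,0,2,0,2,0,1,0,2,0,2,0,2],
[3,5,7,8,9,10,11,1,0,1,0,2,0,2,0,1,0,2,0,1,0,1,0,1,0,2,0,1,0,2,0,2,0,2,0,1,0,2,0,2,0,2,0,1,0,1,0,1,0,1,0,1,0,2,0,1,0,1,0,1,0,2],
[1,0,2,0,2,0,2,0,2,0,2,0,1,0,2,0,2,0],
[4,5,6,8,9,2,0,1,0,2,0,2,0,2,0,1,0,2,0,2,0,1,0,2,0,1,0,1,0,1,0,1,0,1,0,2,0,1,0,2,0,1,0,1],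
[1,0,2,0,1,0,2,0,1,0,1,0,2,0,1,0,2],
[3,7,8,9,11,12,0,2,0,2,0,2,0,1,0,1,0,1,0,1,0,1,0,2,0,1,0,1,0,1,0,2,0,2,0,1,0,1,0,1,0,1,0,1,0,2,0],
[4,5,8,9,11,12,13,0,2,0,1,0,1,0,2,0,1,0,2,0,1,0,1,0,2,0,1,0,1,0,1,0,2,0,1,0,2,0,1,0,1,0,1,0,2,0,2,0,2,0,2,0,2,0,2],
[3,5,6,7,10,11,12,13,1,0,2,0,1,0,1,0,2,0,1,0,1,0,2,0,2,0,1,0,1,0,2,0,1,0,1,0,1,0,1,0,1,0,1,0,1,0,2,0,1,0,2,0,2,0,1,0,1,0,2,0,2,0,1,0,1],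
[3,4,7,8,9,12,2,0,2,0,2,0,2,0,2,0,1,0,1,0,1,0,2,0,1,0,2,0,2,0,2,0,2,0,2,0,1,0,1,0,1,0,2,0,1,0,1,0,1,0,2,0,1,0,2],
[3,6,7,9,12,1,0,2,0,2,0,1,0,2,0,1,0,1,0,1,0,2,0,2,0,1,0,2,0,2,0,2,0,1,0,1,0,2,0,1,0,2,0,1,0,2,0,2,0,2,0,2,0,2,0,1,0,2,0,1,0],
[4,5,6,8,11,0,2,0,2,0,2,0,1,0,2,0,2,0,1,0,2,0,1,0,2,0,2,0,1,0,2,0,1,0,2,0,1,0,1,0,2,0,1,0,2,0,1,0,1,0,2,0,1,0,1,0,1,0],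
[3,4,5,7,9,10,12,1,0,1,0,1,0,2,0,1,0,2,0,2,0,2,0,2,0,2,0,2,0,2,0,1,0,2,0,1,0,2,0,1,0,2,0,2,0,2,0,2,0,1,0,1,0,1,0,1,0,2,0],
[3,4,6,9,10,11,2,0,2,0,1,0,2,0,1,0,1,0,1,0,2,0,2,0,1,0,1,0,1,0,2,0,1,0,2,0,1,0,1,0,2,0,2,0,2,0,1,0,2,0,2,0,2,0,1,0,1,0,1],
[3,4,9,10,12,1,0,1,0,2,0,1,0,1,0,1,0,1,0,1,0,2,0,2,0,2,0,2,0,2,0,2,0,2,0,2,0,1,0,1,0,2,0,1,0,2,0,1,0,1,0,2,0,2],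
[4,9,10,11,12,1,0,1,0,1,0,2,0,2,0,1,0,2,0,1,0,1,0,1,0,1,0,2,0,1,0,2,0,2,0,1,0,2,0,1,0,2,0,2,0,1,0,2,0,1],
[3,4,5,8,9,11,13,2,0,2,0,2,0,1,0,1,0,2,0,2,0,2,0,2,0,1,0,2,0,1,0,1,0,2,0,1,0,1,0,1,0,1,0,2,0,2,0,1,0,2,0,1,0,2,0,1,0,2],
[3,4,6,8,9,10,11,12,13,0,1,0,1,0,2,0,2,0,1,0,2,0,1,0,1,0,1,0,1,0,1,0,2,0,2,0,2,0,1,0,2,0,2,0,2,0,1,0,2,0,1,0,1,0,1,0,2,0],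
[4,6,8,2,0,2,0,2,0,2,0,1,0,2,0,1,0,2,0,2,0,2,0,1,0,1,0,1,0,2,0,2,0,1,0,2,0,1,0,1,0,2,0,2,0,1,0,2,0,2,0,1,0,1],
[3,4,7,8,9,12,13,2,0,2,0,1,0,1,0,2,0,2,0,2,0,1,0,2,0,1,0,2,0,2,0,2,0,1,0,2,0,2,0,2,0,2,0,2,0,2,0,2,0,1,0,1,0,1,0,1,0,2,0,1],
[3,5,6,7,8,1,0,2,0,1,0,2,0,1,0,1,0,1,0,2,0,1,0,2,0,2,0,2,0,1,0,2,0,1,0,1,0,1,0,1,0,1,0,1,0,1,0,1,0,1,0,2,0,2,0,1,0,2,0,1,0,2],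
[3,6,7,9,12,13,1,0,1,0,2,0,2,0,1,0,2,0,2,0,1,0,2,0,1,0,2,0,1,0,1,0,1,0,1,0,2,0,1,0,1,0,1,0,1,0,2,0,2,0],
[8,12,0,2,0,1,0,1,0,1,0,2,0,1,0,2,0,1,0,2,0,2,0,2,0,2,0,2,0,1,0,1,0,1,0,1,0,2,0,1,0,2,0,1,0,1,0,2,0,1,0,2],
[5,6,8,9,10,12,2,0,1,0,2,0,1,0,2,0,1,0,1,0,2,0,2,0,2,0,2,0,1,0,1,0,1,0,2,0,1,0,1,0,2,0,2,0,2,0,2,0,1,0,2,0,2,0,2,0,1],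
[3,4,5,7,10,12,1,0,2,0,1,0,2,0,2,0,2,0,1,0,1,0,1,0,1,0,2,0,2,0,2,0,1,0,1,0,1,0,1,0,2,0,2,0,2,0,2,0,1,0,2,0,1,0,2,0,2,0,1,0,1],
[3,4,10,11,13,0,1,0,2,0,1,0,1,0,2,0,1,0,1,0,1,0,2,0,2,0,2,0,2,0,1,0,2,0,1,0,1,0,1,0,2,0,2,0,2,0,2,0,1,0,2,0,2,0,2,0,1,0,2,0,1],
[],
[0,1],
[3,4,5,6,12,13,1,0,2,0,1,0,2,0,1,0,1,0,1,0,1,0,1,0,1,0,1,0,2,0,1,0,2,0,1,0,2,0,1,0,2,0,1,0,1,0,2,0,2,0,2,0,1,0,1],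
[3,5,7,11,13,1,0,1,0,2,0,1,0,2,0,1,0,1,0,2,0,1,0,2,0,1,0,1,0,1,0,2,0,1,0,1,0,1,0,2,0,2,0,2,0,1,0,2,0,2,0,1,0],
[3,6,8,9,11,13,0,2,0,2,0,2,0,1,0,1,0,1,0,2,0,2,0,2,0,2,0,2,0,1,0,2,0,1,0,2,0,1,0,1,0,1,0,2,0,2,0,2,0,2,0,2,0,1,0],
[3,5,9,10,12,13,2,0,2,0,1,0,1,0,2,0,2,0,2,0,2,0,2,0,1,0,2,0,1,0,1,0,2,0,2,0,2,0,2,0,2,0,2,0,2,0,2,0,1,0,1,0,1],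
[5,7,8,9,11,12,13,1,0,2,0,2,0,2,0,2,0,2,0,2,0,2,0,2,0,2,0,1,0,1,0,2,0,2,0,2,0,1,0,1,0,1,0,1,0,2,0,2,0,2,0,1,0,1,0,2,0,2,0,1,0,1],
[3,5,6,7,8,9,11,1,0,2,0,1,0,1,0,1,0,2,0,1,0,2,0,2,0,2,0,2,0,1,0,1,0,2,0,2,0,1,0,2,0,1,0,1,0,1,0,1,0,2,0,2,0,1,0,1,0,1,0,1,0,1,0],
[6,8,11,13,2,0,2,0,1,0,1,0,1,0,2,0,1,0,1,0,2,0,2,0,2,0,2],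
[1,0,1,0,1,0,1,0,2,0,1,0,1,0,2,0,2,0,2,0,2],
[3,5,6,8,11,13,0,2,0,2,0,1,0,1,0,1,0,1,0,2,0,2,0,1,0,2,0,1,0,2,0,1,0,2,0,2,0,2,0,2,0,1,0,1,0,1,0,2,0,2,0,2,0,2,0,2],
[3,4,5,6,10,11,1,0,1,0,2,0,2,0,1,0,1,0,1,0,2,0,1,0,1,0,1,0,2,0,2,0,2,0,2,0,1,0,1,0,2,0,2,0,1,0,2,0,2,0,1,0,2,0,1,0,2,0,2,0,2],
[3,4,6,7,8,9,11,13,0,1,0,2,0,2,0,2,0,1,0,1,0,2,0,1,0,2,0,1,0,2,0,2,0,1,0,2,0,1,0,1,0,2,0,1,0,1,0,1,0,1,0,2,0,2],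
[4,5,6,8,9,10,11,12,13,2,0,1,0,2,0,1,0,2,0,1,0,2,0,2,0,2,0,2,0,2,0,1,0,2,0,1,0,2,0,2,0,2,0,1,0,2,0,1,0,2,0,2,0,1],
[4,5,7,8,11,12,13,1,0,2,0,2,0,1,0,1,0,1,0,1,0,1,0,2,0,2,0,2,0,1,0,2,0,1,0,1,0,2,0,2,0,1,0,1,0,1,0,2,0,2,0,1,0,2,0,2,0],
[5,6,7,8,12,13,0,1,0,1,0,2,0,1,0,2,0,2,0,2,0,1,0,1,0,1,0,1,0,2,0,1,0,1,0,1,0,2,0,1,0,2,0,2,0,2,0,2,0,2,0,1,0,2,0,1,0,1,0],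
[3,4,7,8,10,13,2,0,2,0,2,0,2,0,2,0,1,0,2,0,1,0,2,0,1,0,1,0,2,0,2,0,1,0,2,0,2,0,2,0,1,0,1,0,2,0,2,0,2,0,1,0,1,0,2,0,1],
[3,4,5,6,8,11,1,0,2,0,1,0,1,0,1,0,1,0,2,0,2,0,2,0,1,0,2,0,1,0,1,0,1,0,1,0,2,0,2,0,1,0,2,0,1,0,1,0,1,0,1,0,2,0,1,0,2,0,1,0,1,0,2],
[3,6,7,8,11,0,1,0,2,0,2,0,1,0,2,0,2,0,2,0,2,0,2,0,1,0,2,0,1,0,2,0,1,0,2,0,2,0,2,0,2,0,1,0,1,0,2,0,2,0,1,0,1,0,1,0,2,0,1],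
[3,10,11,12,1,0,2,0,2,0,2,0,1,0,2,0,2,0,2,0,1,0,1,0,1,0,2,0,2,0,1,0,1,0,1,0,2,0,2,0,1,0,2,0,1,0,2,0,2,0,1,0,1,0,1,0,1,0,1,0,2],
[3,4,6,7,10,11,1,0,2,0,1,0,1,0,2,0,1,0,1,0,2,0,2,0,2,0,1,0,1,0,1,0,1,0,2,0,1,0,1,0,1,0,1,0,1,0,2,0,1,0,1,0,1,0],
[3,6,7,9,10,11,12,2,0,1,0,2,0,2,0,1,0,2,0,2,0,2,0,2,0,1,0,2,0,2,0,1,0,2,0,1,0,1,0,2,0,1,0,1,0,1,0,1,0,1,0,1],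
[4,6,7,9,10,11,13,2,0,2,0,2,0,2,0,2,0,2,0,2,0,1,0,2,0,1,0,2,0,2,0,2,0,1,0,2,0,2,0,1,0,1,0,1,0,2,0,2,0,1,0,2,0,1,0,1],
[3,4,6,8,12,13,1,0,2,0,1,0,1,0,2,0,2,0,2,0,2,0,2,0,1,0,1,0,1,0,1,0,1,0,2,0,1,0,1,0,1,0,1,0,2,0,2,0,1,0,1,0,1,0,2,0,2,0,2,0],
[7,9,10,11,12,13,1,0,2,0,2,0,1,0,1,0,1,0,1,0,1,0,2,0,1,0,1,0,2,0,2,0,2,0,1,0,1,0,2,0,2,0,2,0,1,0,2,0,2,0,2,0,1,0,2,0,1,0,1,0],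
[3,5,6,10,0,2,0,1,0,2,0,1,0,2,0,2,0,2,0,2,0,2,0,1,0,2,0,1,0,2,0,1,0,1,0,1,0,1,0,2,0,1,0,1,0,1,0,1,0,1,0,1,0,2,0,1,0,2]]
def relTab : List (List ℕ) := [[0,86,0,86,0,86],[0,89,0,89,0,90],[0,0],[0,87,0,88,0,87,0,88],[0,88,0,87,0,88,0,87],[0,90,0,89,0,89],[0,89,0,90,0,89]]
def l0 : List ℕ := [0,0,1,2,3,3]
def treeList : List ℕ := [108,68,58,26,12,0]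

end

end H94.J4.Data
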